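import Cfsg.Agent.Lib.FischerType.TransvClass

set_option autoImplicit false

/-! The five transvections on a totally isotropic line of the unitary space of dimension six. -/

namespace CfsgLib.FischerType.U6

open CfsgLib.Classical.Herm HermSpace CfsgLib.UnitaryTransv CfsgLib.U6Cover

variable {F : Type*} [Field F] [Fintype F] {n : ℕ} (hF : Fintype.card F = 2 ^ 2)

local notation "𝓗" => stdHerm hF n

theorem mulSelf_ptv (v : Fin n → F) (hv : (𝓗).h v v = 0) : ptv hF v hv * ptv hF v hv = 1 := by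
  rw [ptv, ← map_mul, ← map_one (proj hF (n := n))]
  exact congrArg _ (Subtype.ext (tv_sq hF v hv))

theorem commute_ptv {v w : Fin n → F} (hv : (𝓗).h v v = 0) (hw : (𝓗).h w w = 0)
    (h : (𝓗).h w v = 0) : Commute (ptv hF v hv) (ptv hF w hw) := by
  have h1 : Commute (⟨tv hF v hv, det_tv hF v hv⟩ : (detHom 𝓗).ker) ⟨tv hF w hw, det_tv hF w hw⟩ :=
    Subtype.ext (tv_commute_of_orth hF hv hw h)
  exact h1.map (proj hF)

theorem orth_of_commute_ptv {v w : Fin n → F} (hv : (𝓗).h v v = 0) (hw : (𝓗).h w w = 0)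
    (hw0 : w ≠ 0) (h : Commute (ptv hF v hv) (ptv hF w hw)) : (𝓗).h w v = 0 := by
  set a : (detHom 𝓗).ker := ⟨tv hF v hv, det_tv hF v hv⟩ with ha
  set b : (detHom 𝓗).ker := ⟨tv hF w hw, det_tv hF w hw⟩ with hb
  have hp : proj hF ((a * b) ^ 2) = 1 := by
    rw [map_pow, map_mul, (show Commute (proj hF a) (proj hF b) from h).mul_pow, ← map_pow, ← map_pow,
      pow_two, pow_two, show a * a = 1 from Subtype.ext (tv_sq hF v hv),
      show b * b = 1 from Subtype.ext (tv_sq hF w hw), map_one, one_mul]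
  have hz : Commute ((tv hF v hv * tv hF w hw) ^ 2) (tv hF v hv) := by
    simpa [ha, hb] using (proj_eq_one hF hp a).map (detHom 𝓗).ker.subtype
  refine orth_of_tv_commute hF hv hw hw0 ?_
  rcases tv_products hF v w hv hw with h2 | h3
  · rw [pow_two] at h2
    have h4 := eq_inv_of_mul_eq_one_left h2
    rwa [mul_inv_rev, tv_inv, tv_inv] at h4
  · have h4 : (tv hF v hv * tv hF w hw) ^ 2 = (tv hF v hv * tv hF w hw)⁻¹ :=
      eq_inv_of_mul_eq_one_left (by rw [← pow_succ]; exact h3)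
    rw [h4] at hz
    have h5 := hz.inv_left
    rw [inv_inv] at h5
    have h6 : tv hF v hv * tv hF w hw * tv hF v hv =
        tv hF v hv * (tv hF v hv * tv hF w hw) := h5.eq
    rw [← mul_assoc, tv_sq, one_mul] at h6
    calc tv hF v hv * tv hF w hw
        = tv hF v hv * tv hF w hw * tv hF v hv * tv hF v hv := by rw [mul_assoc _ _ (tv hF v hv), tv_sq, mul_one]
      _ = _ := by rw [h6]

theorem ne_ptv {u u' y : Fin n → F} (hu : (𝓗).h u u = 0) (hu' : (𝓗).h u' u' = 0)
    (hy : (𝓗).h y y = 0) (hy0 : y ≠ 0) (h : (𝓗).h y u = 0) (h' : (𝓗).h y u' ≠ 0) :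
    ptv hF u hu ≠ ptv hF u' hu' := by
  intro he
  have hc := commute_ptv hF hu hy h
  rw [he] at hc
  exact h' (orth_of_commute_ptv hF hu' hy hy0 hc)

/-- The transvection class. -/
def tvSet : Set (Cfsg.PSU n F 2) :=
  {x | ∃ v, ∃ hv : (𝓗).h v v = 0, v ≠ 0 ∧ ptv hF v hv = x}

theorem ptv_mem {v : Fin n → F} (hv : (𝓗).h v v = 0) (hv0 : v ≠ 0) : ptv hF v hv ∈ tvSet hF :=
  ⟨v, hv, hv0, rfl⟩

theorem h_six (hF : Fintype.card F = 2 ^ 2) (x y : Fin 6 → F) : (stdHerm hF 6).h x y =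
    x 0 * y 0 ^ 2 + x 1 * y 1 ^ 2 + x 2 * y 2 ^ 2 + x 3 * y 3 ^ 2 + x 4 * y 4 ^ 2 + x 5 * y 5 ^ 2 := by
  show Cfsg.hermForm 6 F 2 x y = _
  simp [Cfsg.hermForm, Fin.sum_univ_succ, add_assoc]

theorem exists_not_zero_one (hF : Fintype.card F = 2 ^ 2) : ∃ ω : F, ω ≠ 0 ∧ ω ≠ 1 := by
  classical
  obtain ⟨ω, -, hω⟩ := Finset.exists_mem_notMem_of_card_lt_card
    (s := ({0, 1} : Finset F)) (t := Finset.univ)
    (lt_of_le_of_lt Finset.card_le_two (by rw [Finset.card_univ, hF]; norm_num))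
  simp only [Finset.mem_insert, Finset.mem_singleton, not_or] at hω
  exact ⟨ω, hω⟩

/-- The five transvections of a line: two of them and the three others. -/
structure FiveLine {n : ℕ} (E : Set (Cfsg.PSU n F 2)) (b c p q r : Cfsg.PSU n F 2) : Prop where
  mem : b ∈ E ∧ c ∈ E ∧ p ∈ E ∧ q ∈ E ∧ r ∈ E
  ne : b ≠ c ∧ b ≠ p ∧ b ≠ q ∧ b ≠ r ∧ c ≠ p ∧ c ≠ q ∧ c ≠ r ∧ p ≠ q ∧ p ≠ r ∧ q ≠ r
  comm : Commute b c ∧ Commute b p ∧ Commute b q ∧ Commute b r ∧ Commute c p ∧ Commute c q ∧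
    Commute c r ∧ Commute p q ∧ Commute p r ∧ Commute q r
  prod : b * c * p * q * r = 1
  /-- The three others commute with whatever commutes with the two. -/
  adj : ∀ z ∈ E, Commute z b → Commute z c → Commute z p ∧ Commute z q ∧ Commute z r
  radical : ∀ x ∈ E, x ≠ b → x ≠ c → Commute x b → Commute x c →
    (∀ z ∈ E, z ≠ b → z ≠ c → Commute z b → Commute z c → Commute x z) → x = p ∨ x = q ∨ x = r

set_option maxHeartbeats 1000000 in
theorem exists_fiveLine (hF : Fintype.card F = 2 ^ 2) :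
    ∃ b c p q r, FiveLine (tvSet hF (n := 6)) b c p q r := by
  obtain ⟨ω, hω0, hω1⟩ := exists_not_zero_one hF
  have h2 := two_eq_zero hF
  have hω3 := CfsgLib.UnitaryTransv.pow_three hF hω0
  set ω' := ω + 1 with hω'
  have hω'0 : ω' ≠ 0 := fun h => hω1 (by linear_combination h - h2)
  have hω'3 := CfsgLib.UnitaryTransv.pow_three hF hω'0
  have hpoly : ω ^ 2 + ω + 1 = 0 := by
    have : (ω - 1) * (ω ^ 2 + ω + 1) = 0 := by linear_combination hω3
    exact (mul_eq_zero.1 this).resolve_left (sub_ne_zero.2 hω1)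
  set v : Fin 6 → F := ![1, 1, 0, 0, 0, 0] with hvdef
  set w : Fin 6 → F := ![0, 0, 1, 1, 0, 0] with hwdef
  let u : F → Fin 6 → F := fun t => ![1, 1, t, t, 0, 0]
  have h1 : (1 : F) + 1 = 0 := add_self_zero hF 1
  have hv : (stdHerm hF 6).h v v = 0 := by rw [h_six]; simp [hvdef, h1]
  have hw : (stdHerm hF 6).h w w = 0 := by rw [h_six]; simp [hwdef, h1]
  have hu : ∀ t, (stdHerm hF 6).h (u t) (u t) = 0 := fun t => by
    rw [h_six]; simp [u]
    linear_combination (1 + t * t ^ 2) * h2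
  have hvw : (stdHerm hF 6).h v w = 0 := by rw [h_six]; simp [hvdef, hwdef]
  have huv : ∀ t, (stdHerm hF 6).h (u t) v = 0 := fun t => by rw [h_six]; simp [u, hvdef, h1]
  have huw : ∀ t, (stdHerm hF 6).h (u t) w = 0 := fun t => by
    rw [h_six]; simp [u, hwdef, add_self_zero hF]
  have huu : ∀ s t, (stdHerm hF 6).h (u s) (u t) = 0 := fun s t => by
    rw [h_six]; simp [u]
    linear_combination (1 + s * t ^ 2) * h2
  have v0 : v ≠ 0 := fun h => by simpa [hvdef] using congrFun h 0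
  have w0 : w ≠ 0 := fun h => by simpa [hwdef] using congrFun h 2
  have u0 : ∀ t, u t ≠ 0 := fun t h => by simpa [u] using congrFun h 0
  have hcomb : ∀ t, u t = v + t • w := fun t => by
    funext i; fin_cases i <;> simp [u, hvdef, hwdef]
  -- separating vectors
  set y₁ : Fin 6 → F := ![1, 0, 0, 0, 1, 0] with hy₁def
  have hy₁ : (stdHerm hF 6).h y₁ y₁ = 0 := by rw [h_six]; simp [hy₁def, h1]
  have y₁0 : y₁ ≠ 0 := fun h => by simpa [hy₁def] using congrFun h 0
  set y₂ : Fin 6 → F := ![0, 0, 1, 0, 1, 0] with hy₂def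
  have hy₂ : (stdHerm hF 6).h y₂ y₂ = 0 := by rw [h_six]; simp [hy₂def, h1]
  have y₂0 : y₂ ≠ 0 := fun h => by simpa [hy₂def] using congrFun h 2
  have nvw : ptv hF v hv ≠ ptv hF w hw := (ne_ptv hF hw hv hy₁ y₁0
    (by rw [h_six]; simp [hy₁def, hwdef]) (by rw [h_six]; simp [hy₁def, hvdef])).symm
  have nvu : ∀ t, t ≠ 0 → ptv hF v hv ≠ ptv hF (u t) (hu t) := fun t ht => ne_ptv hF hv (hu t) hy₂ y₂0
    (by rw [h_six]; simp [hy₂def, hvdef]) (by rw [h_six]; simp [hy₂def, u, ht])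
  have nwu : ∀ t, ptv hF w hw ≠ ptv hF (u t) (hu t) := fun t => ne_ptv hF hw (hu t) hy₁ y₁0
    (by rw [h_six]; simp [hy₁def, hwdef]) (by rw [h_six]; simp [hy₁def, u])
  have nuu : ∀ s t, s ≠ 0 → s ≠ t → ptv hF (u s) (hu s) ≠ ptv hF (u t) (hu t) := fun s t hs hst => by
    have hy : (stdHerm hF 6).h ![s ^ 2, 0, 1, 0, 0, 0] ![s ^ 2, 0, 1, 0, 0, 0] = 0 := by
      rw [h_six]; simp
      linear_combination (s ^ 3 + 1) * CfsgLib.UnitaryTransv.pow_three hF hs + h2
    have hy0 : (![s ^ 2, 0, 1, 0, 0, 0] : Fin 6 → F) ≠ 0 := fun h => by simpa using congrFun h 2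
    refine ne_ptv hF (hu s) (hu t) hy hy0 ?_ fun h => hst ?_
    · rw [h_six]; simp [u]; exact add_self_zero hF _
    · rw [h_six] at h
      simp [u] at h
      have h4 : s ^ 2 = t ^ 2 := by linear_combination h - t ^ 2 * h2
      have h5 : (s - t) ^ 2 = 0 := by linear_combination h4 + (t ^ 2 - s * t) * h2
      exact sub_eq_zero.1 (pow_eq_zero_iff two_ne_zero |>.1 h5)
  have hsum : ∀ x : Fin 6 → F, ∀ t, (stdHerm hF 6).h x (u t) • u t =
      ((stdHerm hF 6).h x v + t ^ 2 * (stdHerm hF 6).h x w) • v +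
        (t * ((stdHerm hF 6).h x v + t ^ 2 * (stdHerm hF 6).h x w)) • w := fun x t => by
    rw [hcomb, (stdHerm hF 6).add_right, (stdHerm hF 6).smul_right, stdHerm_conj, smul_add, smul_smul,
      mul_comm _ t]
  refine ⟨ptv hF v hv, ptv hF w hw, ptv hF (u 1) (hu 1), ptv hF (u ω) (hu ω), ptv hF (u ω') (hu ω'),
    ⟨ptv_mem hF hv v0, ptv_mem hF hw w0, ptv_mem hF (hu _) (u0 _), ptv_mem hF (hu _) (u0 _),
      ptv_mem hF (hu _) (u0 _)⟩,
    ⟨nvw, nvu 1 one_ne_zero, nvu ω hω0, nvu ω' hω'0, nwu 1, nwu ω, nwu ω',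
      nuu 1 ω one_ne_zero hω1.symm, nuu 1 ω' one_ne_zero (fun h => hω0 (by linear_combination -h)),
      nuu ω ω' hω0 (fun h => one_ne_zero (α := F) (by linear_combination -h))⟩,
    ⟨(commute_ptv hF hw hv hvw).symm, (commute_ptv hF (hu _) hv ((stdHerm hF 6).h_comm_zero (huv _))).symm,
      (commute_ptv hF (hu _) hv ((stdHerm hF 6).h_comm_zero (huv _))).symm,
      (commute_ptv hF (hu _) hv ((stdHerm hF 6).h_comm_zero (huv _))).symm,
      (commute_ptv hF (hu _) hw ((stdHerm hF 6).h_comm_zero (huw _))).symm,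
      (commute_ptv hF (hu _) hw ((stdHerm hF 6).h_comm_zero (huw _))).symm,
      (commute_ptv hF (hu _) hw ((stdHerm hF 6).h_comm_zero (huw _))).symm,
      commute_ptv hF _ _ (huu _ _), commute_ptv hF _ _ (huu _ _), commute_ptv hF _ _ (huu _ _)⟩,
    ?_, ?_, ?_⟩
  · simp only [ptv, ← map_mul]
    rw [← map_one (proj hF (n := 6))]
    refine congrArg _ (Subtype.ext (unit_ext fun x => ?_))
    simp only [Subgroup.coe_mul, LinearEquiv.mul_apply, tv_apply, OneMemClass.coe_one,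
      LinearEquiv.coe_one, id_eq, (stdHerm hF 6).add_left, (stdHerm hF 6).smul_left, hvw,
      (stdHerm hF 6).h_comm_zero hvw, huv, huw, huu, hv, hw, hu, mul_zero, add_zero]
    rw [hsum, hsum, hsum, hω']
    match_scalars
    · ring
    · linear_combination ((stdHerm hF 6).h x v * 2 + (stdHerm hF 6).h x w * (ω ^ 2 + ω + 1)) * h2
    · linear_combination ((stdHerm hF 6).h x v * (ω + 1) + (stdHerm hF 6).h x w * ω ^ 3) * h2 +
        3 * (stdHerm hF 6).h x w * hpoly
  · rintro _ ⟨y, hy, hy0, rfl⟩ hyv hyw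
    have e1 := orth_of_commute_ptv hF hv hy hy0 hyv.symm
    have e2 := orth_of_commute_ptv hF hw hy hy0 hyw.symm
    have : ∀ t, Commute (ptv hF y hy) (ptv hF (u t) (hu t)) := fun t =>
      (commute_ptv hF (hu t) hy (by
        rw [hcomb, (stdHerm hF 6).add_right, (stdHerm hF 6).smul_right, e1, e2, mul_zero, add_zero])).symm
    exact ⟨this _, this _, this _⟩
  · rintro _ ⟨y, hy, hy0, rfl⟩ hxb hxc cxb cxc hall
    have e1 := orth_of_commute_ptv hF hv hy hy0 cxb.symm
    have e2 := orth_of_commute_ptv hF hw hy hy0 cxc.symm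
    have hzz : ∀ t : F, t ≠ 0 → (stdHerm hF 6).h y ![0, 0, 0, 0, 1, t] = 0 := by
      intro t ht
      have hz : (stdHerm hF 6).h ![0, 0, 0, 0, 1, t] ![0, 0, 0, 0, 1, t] = 0 := by
        rw [h_six]; simp
        linear_combination CfsgLib.UnitaryTransv.pow_three hF ht + h2
      have hz0 : (![0, 0, 0, 0, 1, t] : Fin 6 → F) ≠ 0 := fun h => by simpa using congrFun h 4
      have hy3 : (stdHerm hF 6).h ![1, 0, 1, 0, 0, 0] ![1, 0, 1, 0, 0, 0] = 0 := by
        rw [h_six]; simp [h1]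
      have y30 : (![1, 0, 1, 0, 0, 0] : Fin 6 → F) ≠ 0 := fun h => by simpa using congrFun h 0
      refine orth_of_commute_ptv hF hz hy hy0 (hall _ (ptv_mem hF hz hz0) ?_ ?_ ?_ ?_).symm
      · exact ne_ptv hF hz hv hy3 y30 (by rw [h_six]; simp) (by rw [h_six]; simp [hvdef])
      · exact ne_ptv hF hz hw hy3 y30 (by rw [h_six]; simp) (by rw [h_six]; simp [hwdef])
      · exact commute_ptv hF hz hv (by rw [h_six]; simp [hvdef])
      · exact commute_ptv hF hz hw (by rw [h_six]; simp [hwdef])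
    have e3 := hzz 1 one_ne_zero
    have e4 := hzz ω hω0
    rw [h_six] at e1 e2 e3 e4
    simp [hvdef, hwdef] at e1 e2 e3 e4
    have y5 : y 5 = 0 := by
      have : y 5 * (ω ^ 2 - 1) = 0 := by linear_combination e4 - e3
      refine (mul_eq_zero.1 this).resolve_right fun h => hω0 ?_
      linear_combination hpoly - h - h2
    have y4 : y 4 = 0 := by linear_combination e3 - y5
    have y10 : y 1 = y 0 := by linear_combination e1 - y 0 * h2
    have y32 : y 3 = y 2 := by linear_combination e2 - y 2 * h2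
    by_cases ha : y 0 = 0
    · refine absurd (congrArg (proj hF) (Subtype.ext (tv_smul hF (a := y 2) (fun h => hy0 ?_) hw hy ?_))) hxc
      · funext i; fin_cases i <;> simp [ha, h, y10, y32, y4, y5]
      · funext i; fin_cases i <;> simp [hwdef, ha, y10, y32, y4, y5]
    by_cases hb : y 2 = 0
    · refine absurd (congrArg (proj hF) (Subtype.ext (tv_smul hF (a := y 0) ha hv hy ?_))) hxb
      funext i; fin_cases i <;> simp [hvdef, hb, y10, y32, y4, y5]
    have key : ∀ t, y 2 = y 0 * t → ptv hF y hy = ptv hF (u t) (hu t) := fun t ht =>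
      congrArg (proj hF) (Subtype.ext (tv_smul hF (a := y 0) ha (hu t) hy (by
        funext i; fin_cases i <;> simp [u, ht, y10, y32, y4, y5])))
    set t := y 2 / y 0 with htdef
    have ht0 : t ≠ 0 := div_ne_zero hb ha
    have hyt : y 2 = y 0 * t := by rw [htdef]; field_simp
    have hroots : t = 1 ∨ t = ω ∨ t = ω' := by
      have h7 : (t - 1) * ((t - ω) * (t - ω')) = 0 := by
        rw [hω']
        linear_combination CfsgLib.UnitaryTransv.pow_three hF ht0 + (t - 1) * hpoly +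
          (t - 1) * (-(ω * t) - t - 1) * h2
      rcases mul_eq_zero.1 h7 with h | h
      · exact Or.inl (sub_eq_zero.1 h)
      · rcases mul_eq_zero.1 h with h | h
        exacts [Or.inr (Or.inl (sub_eq_zero.1 h)), Or.inr (Or.inr (sub_eq_zero.1 h))]
    rcases hroots with h | h | h
    · exact Or.inl (key 1 (h ▸ hyt))
    · exact Or.inr (Or.inl (key ω (h ▸ hyt)))
    · exact Or.inr (Or.inr (key ω' (h ▸ hyt)))

end CfsgLib.FischerType.U6
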