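import Cfsg.Agent.Lib.FischerType.Factor
import Cfsg.Agent.Lib.FischerType.Line

set_option autoImplicit false

/-! In type M(22) a product of three commuting members has exactly two factorisations. -/

namespace CfsgLib.FischerType

open Subgroup
open CfsgLib.ThreeTrans (link commute_conj_iff' conj_self_of_commute conj_conj_eq link_conj)

theorem class_image {A B : Type*} [Group A] [Group B] (e : A ≃* B) {E : Set A}
    (hE : Cfsg.IsThreeTranspositionClass E) : Cfsg.IsThreeTranspositionClass (e '' E) := by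
  obtain ⟨⟨h1, h2⟩, ⟨d, hd, hEd⟩, hgen⟩ := hE
  refine ⟨⟨?_, ?_⟩, ⟨e d, ⟨d, hd, rfl⟩, ?_⟩, ?_⟩
  · rintro _ ⟨x, hx, rfl⟩
    rw [MulEquiv.orderOf_eq]
    exact h1 x hx
  · rintro _ ⟨x, hx, rfl⟩ _ ⟨y, hy, rfl⟩
    simp only [← map_mul, ← map_pow, EmbeddingLike.map_eq_one_iff]
    exact h2 x hx y hy
  · ext y
    obtain ⟨x, rfl⟩ := e.surjective y
    rw [e.injective.mem_set_image, hEd]
    show IsConj d x ↔ IsConj (e d) (e x)
    refine ⟨fun h => e.toMonoidHom.map_isConj h, fun h => ?_⟩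
    simpa using e.symm.toMonoidHom.map_isConj h
  · have := MonoidHom.map_closure e.toMonoidHom E
    rw [hgen, Subgroup.map_top_of_surjective _ e.surjective] at this
    exact this.symm

variable {G : Type*} [Group G]

/-- The common neighbours of `a`, `b`, `c` commuting with all of them. -/
def radical (D : Set G) (a b c : G) : Set G :=
  {x | x ∈ link D a ∩ link D b ∩ link D c ∧ ∀ z ∈ link D a ∩ link D b ∩ link D c, Commute x z}

/-- The radical consists of three members whose product with the other two acts trivially. -/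
def TripleData (D : Set G) (a b c : G) : Prop :=
  ∃ p q r, p ≠ q ∧ p ≠ r ∧ q ≠ r ∧ radical D a b c = {p, q, r} ∧
    ∀ x ∈ link D a, Commute (b * c * p * q * r) x

variable {D : Set G}

theorem radical_conj (hc : Cfsg.IsThreeTranspositionClass D) (g a b c : G) :
    (fun e => g * e * g⁻¹) '' radical D a b c =
      radical D (g * a * g⁻¹) (g * b * g⁻¹) (g * c * g⁻¹) := by
  have hinj : Function.Injective fun e => g * e * g⁻¹ := fun e f h =>
    mul_left_cancel (mul_right_cancel h)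
  have hL : (fun e => g * e * g⁻¹) '' (link D a ∩ link D b ∩ link D c) =
      link D (g * a * g⁻¹) ∩ link D (g * b * g⁻¹) ∩ link D (g * c * g⁻¹) := by
    rw [Set.image_inter hinj, Set.image_inter hinj, link_conj hc, link_conj hc, link_conj hc]
  ext y
  constructor
  · rintro ⟨x, ⟨hx, hall⟩, rfl⟩
    refine ⟨by rw [← hL]; exact ⟨x, hx, rfl⟩, ?_⟩
    rw [← hL]
    rintro _ ⟨z, hz, rfl⟩
    exact (commute_conj_iff' g x z).2 (hall z hz)
  · rintro ⟨hy, hall⟩
    rw [← hL] at hy hall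
    obtain ⟨x, hx, rfl⟩ := hy
    exact ⟨x, ⟨hx, fun z hz => (commute_conj_iff' g x z).1 (hall _ ⟨z, hz, rfl⟩)⟩, rfl⟩

theorem tripleData_conj (hc : Cfsg.IsThreeTranspositionClass D) (g : G) {a b c : G}
    (h : TripleData D a b c) : TripleData D (g * a * g⁻¹) (g * b * g⁻¹) (g * c * g⁻¹) := by
  obtain ⟨p, q, r, hpq, hpr, hqr, hR, hcom⟩ := h
  have hinj : ∀ {x y : G}, x ≠ y → g * x * g⁻¹ ≠ g * y * g⁻¹ :=
    fun hxy h => hxy (mul_left_cancel (mul_right_cancel h))
  refine ⟨g * p * g⁻¹, g * q * g⁻¹, g * r * g⁻¹, hinj hpq, hinj hpr, hinj hqr, ?_, ?_⟩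
  · rw [← radical_conj hc, hR]
    simp [Set.image_insert_eq]
  · rw [← link_conj hc]
    rintro _ ⟨x, hx, rfl⟩
    have h1 := (commute_conj_iff' g _ x).2 (hcom x hx)
    have e : g * (b * c * p * q * r) * g⁻¹ = g * b * g⁻¹ * (g * c * g⁻¹) * (g * p * g⁻¹) *
        (g * q * g⁻¹) * (g * r * g⁻¹) := by group
    rwa [e] at h1

variable [Finite G]

/-- The first neighbour of type M(22) as a primitive class. -/
theorem Setting.quotSetting_of_typeM22 (S : Setting D) (h : Cfsg.IsOfTypeM22 G D) {d₀ : G}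
    (hd₀ : d₀ ∈ D)
    (h3 : Cfsg.pCore 3 ↥(closure (link D d₀)) ≤ center ↥(closure (link D d₀)))
    (h2 : Cfsg.pCore 2 ↥(closure (link D d₀)) ≤ center ↥(closure (link D d₀))) :
    ∃ d ∈ D, (∃ u ∈ link D d, ∃ v ∈ link D d, ¬ Commute u v) ∧ Setting (img D d) ∧
      ∃ (F : Type) (_ : Field F) (_ : Fintype F), Fintype.card F = 4 ∧
        Nonempty (Quot D d ≃* Cfsg.PSU 6 F 2) := by
  obtain ⟨-, d, hd, c, hc, hdc, ⟨F, i1, i2, hF, ⟨e⟩⟩, c₃, hc₃, hproj⟩ := h
  have hs : IsSimpleGroup (Quot D d) := isSimpleGroup_of_psu hF e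
  have hpair := pair_of_nontrivial (D := D) (d := d) hs.toNontrivial
  have hZ : center (Quot D d) = ⊥ := by
    obtain ⟨u, hu, v, hv, huv⟩ := hpair
    refine (IsSimpleGroup.eq_bot_or_eq_top_of_normal _ inferInstance).resolve_right fun htop => huv ?_
    exact commute_of_toImg S.cls.1 hu hv
      (mem_center_iff.1 (htop ▸ mem_top (toImg D d hv) : toImg D d hv ∈ center _) (toImg D d hu))
  exact ⟨d, hd, hpair, S.quotSetting hd hc hdc hpair (not_solvable_of_isProj (by norm_num) hc₃ hproj)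
    (pCore_link_le_center S.cls hd₀ hd h2) (pCore_link_le_center S.cls hd₀ hd h3) hZ, F, i1, i2, hF,
    ⟨e⟩⟩

/-- One triple with its data. -/
theorem Setting.exists_tripleData (S : Setting D) {d : G} (hd : d ∈ D)
    (hpair : ∃ u ∈ link D d, ∃ v ∈ link D d, ¬ Commute u v) {F : Type} [Field F] [Fintype F]
    (hF : Fintype.card F = 4) (e : Quot D d ≃* Cfsg.PSU 6 F 2) :
    ∃ b c, b ∈ link D d ∧ c ∈ link D d ∧ c ∈ link D b ∧ TripleData D d b c := by
  have hF' : Fintype.card F = 2 ^ 2 := hF.trans (by norm_num)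
  have hset := S.cls.1
  have hn := S.noCentral hd hpair
  have hE := U6.eq_tv_class hF' (class_image e (S.imgClass hd hpair))
  obtain ⟨B, C, P, Q, R, hline⟩ := U6.exists_fiveLine hF'
  obtain ⟨⟨hB, hC, hP, hQ, hR⟩, ⟨nBC, nBP, nBQ, nBR, nCP, nCQ, nCR, nPQ, nPR, nQR⟩,
    ⟨cBC, cBP, cBQ, cBR, cCP, cCQ, cCR, cPQ, cPR, cQR⟩, hprod, hadj, hrad⟩ := hline
  have up : ∀ {x}, x ∈ U6.tvSet hF' (n := 6) →
      ∃ (w : G) (hw : w ∈ link D d), e (toImg D d hw) = x := by
    intro x hx
    rw [U6.tvSet, ← hE] at hx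
    obtain ⟨q, hq, rfl⟩ := hx
    obtain ⟨w, hw, rfl⟩ := exists_toImg hq
    exact ⟨w, hw, rfl⟩
  have dn : ∀ {w} (hw : w ∈ link D d), e (toImg D d hw) ∈ U6.tvSet hF' (n := 6) := by
    intro w hw
    rw [U6.tvSet, ← hE]
    exact ⟨_, toImg_mem hw, rfl⟩
  have cback : ∀ {u v} (hu : u ∈ link D d) (hv : v ∈ link D d),
      Commute (e (toImg D d hu)) (e (toImg D d hv)) → Commute u v := fun hu hv h =>
    commute_of_toImg hset hu hv ((commute_map_iff e.injective).1 h)
  have cfwd : ∀ {u v} (hu : u ∈ link D d) (hv : v ∈ link D d), Commute u v →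
      Commute (e (toImg D d hu)) (e (toImg D d hv)) := fun hu hv h =>
    (commute_toImg hu hv h).map e
  have neq : ∀ {u v} (hu : u ∈ link D d) (hv : v ∈ link D d),
      e (toImg D d hu) ≠ e (toImg D d hv) → u ≠ v := fun hu hv h h' => h (by subst h'; rfl)
  have inj : ∀ {u v} (hu : u ∈ link D d) (hv : v ∈ link D d),
      e (toImg D d hu) = e (toImg D d hv) → u = v := fun hu hv h =>
    eq_of_toImg hset hn hu hv (e.injective h)
  obtain ⟨b, hb, rfl⟩ := up hB
  obtain ⟨c, hc, rfl⟩ := up hC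
  obtain ⟨p, hp, rfl⟩ := up hP
  obtain ⟨q, hq, rfl⟩ := up hQ
  obtain ⟨r, hr, rfl⟩ := up hR
  have hcb : c ∈ link D b := ⟨hc.1, (neq hb hc nBC).symm, cback hb hc cBC⟩
  refine ⟨b, c, hb, hc, hcb, p, q, r, neq hp hq nPQ, neq hp hr nPR, neq hq hr nQR, ?_, ?_⟩
  · ext x
    constructor
    · rintro ⟨⟨⟨hx, hxb⟩, hxc⟩, hall⟩
      have key := hrad _ (dn hx) (fun h => hxb.2.1 (inj hx hb h)) (fun h => hxc.2.1 (inj hx hc h))
        (cfwd hx hb hxb.2.2.symm) (cfwd hx hc hxc.2.2.symm) (by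
          intro z hz hzb hzc czb czc
          obtain ⟨w, hw, rfl⟩ := up hz
          exact cfwd hx hw (hall w ⟨⟨hw, hw.1, fun h => hzb (by subst h; rfl), (cback hw hb czb).symm⟩,
            hw.1, fun h => hzc (by subst h; rfl), (cback hw hc czc).symm⟩))
      rcases key with h | h | h
      · exact Or.inl (inj hx hp h)
      · exact Or.inr (Or.inl (inj hx hq h))
      · exact Or.inr (Or.inr (inj hx hr h))
    · have mk : ∀ {s} (hs : s ∈ link D d), s ≠ b → s ≠ c → Commute b s → Commute c s →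
          (∀ z (hz : z ∈ link D d), Commute (e (toImg D d hz)) (e (toImg D d hb)) →
            Commute (e (toImg D d hz)) (e (toImg D d hc)) →
            Commute (e (toImg D d hz)) (e (toImg D d hs))) → s ∈ radical D d b c := by
        intro s hs nsb nsc csb csc hall
        refine ⟨⟨⟨hs, hs.1, nsb, csb⟩, hs.1, nsc, csc⟩, ?_⟩
        rintro z ⟨⟨hz, hzb⟩, hzc⟩
        exact (cback hz hs (hall z hz (cfwd hz hb hzb.2.2.symm) (cfwd hz hc hzc.2.2.symm))).symm
      rintro (h | h | h)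
      · subst h
        exact mk hp (neq hb hp nBP).symm (neq hc hp nCP).symm (cback hb hp cBP) (cback hc hp cCP)
          fun z hz h1 h2 => (hadj _ (dn hz) h1 h2).1
      · subst h
        exact mk hq (neq hb hq nBQ).symm (neq hc hq nCQ).symm (cback hb hq cBQ) (cback hc hq cCQ)
          fun z hz h1 h2 => (hadj _ (dn hz) h1 h2).2.1
      · rw [Set.mem_singleton_iff] at h
        subst h
        exact mk hr (neq hb hr nBR).symm (neq hc hr nCR).symm (cback hb hr cBR) (cback hc hr cCR)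
          fun z hz h1 h2 => (hadj _ (dn hz) h1 h2).2.2
  · intro x hx
    set K := closure (link D d)
    have hz : (⟨b, subset_closure hb⟩ * ⟨c, subset_closure hc⟩ * ⟨p, subset_closure hp⟩ *
        ⟨q, subset_closure hq⟩ * ⟨r, subset_closure hr⟩ : ↥K) ∈ center ↥K := by
      rw [← QuotientGroup.eq_one_iff]
      simp only [QuotientGroup.mk_mul]
      refine e.injective ?_
      simpa only [map_mul, map_one] using hprod
    exact (congrArg Subtype.val (mem_center_iff.1 hz ⟨x, subset_closure hx⟩)).symm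

omit [Finite G] in
/-- The product of three commuting elements depends only on the set. -/
theorem prod_eq_of_set_eq {p q r p' q' r' : G} (hpq : p ≠ q) (hpr : p ≠ r) (hqr : q ≠ r)
    (hpq' : p' ≠ q') (hpr' : p' ≠ r') (hqr' : q' ≠ r') (cpq : Commute p q) (cpr : Commute p r)
    (cqr : Commute q r) (h : ({p, q, r} : Set G) = {p', q', r'}) : p * q * r = p' * q' * r' := by
  have hperm : ([p, q, r]).Perm [p', q', r'] := by
    refine (List.perm_ext_iff_of_nodup (by simp [hpq, hpr, hqr]) (by simp [hpq', hpr', hqr'])).2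
      fun x => ?_
    have := Set.ext_iff.1 h x
    simpa using this
  have := hperm.prod_eq' (by
    simp only [List.pairwise_cons, List.mem_cons, List.not_mem_nil, or_false, List.Pairwise.nil,
      and_true, forall_eq_or_imp, forall_eq, IsEmpty.forall_iff, implies_true]
    exact ⟨⟨cpq, cpr⟩, cqr⟩)
  simpa [mul_assoc] using this

/-- Every triple of commuting members has a partner. -/
theorem Setting.exists_partner (S : Setting D) {d : G} (hd : d ∈ D)
    (hpair : ∃ u ∈ link D d, ∃ v ∈ link D d, ¬ Commute u v) (SX : Setting (img D d))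
    {F : Type} [Field F] [Fintype F] (hF : Fintype.card F = 4) (e : Quot D d ≃* Cfsg.PSU 6 F 2)
    {a b c : G} (ha : a ∈ D) (hb : b ∈ link D a) (hc : c ∈ link D a) (hcb : c ∈ link D b) :
    ∃ p q r, p ≠ q ∧ p ≠ r ∧ q ≠ r ∧ radical D a b c = {p, q, r} ∧ p * q * r = a * b * c := by
  obtain ⟨b₀, c₀, hb₀, hc₀, hcb₀, hdata₀⟩ := S.exists_tripleData hd hpair hF e
  have hall : ∀ {a b c : G}, a ∈ D → b ∈ link D a → c ∈ link D a → c ∈ link D b →
      TripleData D a b c := by
    intro a b c ha hb hc hcb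
    obtain ⟨g, rfl, rfl, rfl⟩ := S.exists_conj_triple hd hpair SX hd hb₀ hc₀ hcb₀ ha hb hc hcb
    exact tripleData_conj S.cls g hdata₀
  have hab : a ∈ link D b := ⟨ha, hb.2.1.symm, hb.2.2.symm⟩
  obtain ⟨p, q, r, hpq, hpr, hqr, hR, hcom⟩ := hall ha hb hc hcb
  obtain ⟨p', q', r', hpq', hpr', hqr', hR', hcom'⟩ := hall hb.1 hab hcb hc
  have hRR : radical D b a c = radical D a b c := by
    simp only [radical, Set.inter_comm (link D b) (link D a)]
  refine ⟨p, q, r, hpq, hpr, hqr, hR, ?_⟩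
  have hpm : p ∈ radical D a b c := by rw [hR]; exact Or.inl rfl
  have hqm : q ∈ radical D a b c := by rw [hR]; exact Or.inr (Or.inl rfl)
  have hrm : r ∈ radical D a b c := by rw [hR]; exact Or.inr (Or.inr rfl)
  have cpq := hpm.2 q hqm.1
  have cpr := hpm.2 r hrm.1
  have cqr := hqm.2 r hrm.1
  have hsame : ({p, q, r} : Set G) = {p', q', r'} := by rw [← hR, ← hR', hRR]
  have hset := S.cls.1
  obtain ⟨⟨pa, pb⟩, pc⟩ := hpm.1
  obtain ⟨⟨qa, qb⟩, qc⟩ := hqm.1
  obtain ⟨⟨ra, rb⟩, rc⟩ := hrm.1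
  set π := p * q * r with hπ
  set u := a * b * c * π with hu
  have cab := hb.2.2
  have cac := hc.2.2
  have cbc := hcb.2.2
  have caπ : Commute a π := (pa.2.2.mul_right qa.2.2).mul_right ra.2.2
  have cbπ : Commute b π := (pb.2.2.mul_right qb.2.2).mul_right rb.2.2
  have cau : Commute a u := (((Commute.refl a).mul_right cab).mul_right cac).mul_right caπ
  have cbu : Commute b u := ((cab.symm.mul_right (Commute.refl b)).mul_right cbc).mul_right cbπ
  have hua : ∀ x ∈ link D a, Commute u x := by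
    intro x hx
    have h1 : Commute (a * (b * c * p * q * r)) x := hx.2.2.mul_left (hcom x hx)
    have e1 : u = a * (b * c * p * q * r) := by rw [hu, hπ]; group
    rwa [e1]
  have hub : ∀ x ∈ link D b, Commute u x := by
    intro x hx
    have h1 : Commute (b * (a * c * p' * q' * r')) x := hx.2.2.mul_left (hcom' x hx)
    have e1 : u = b * (a * c * p' * q' * r') := by
      rw [hu, hπ, prod_eq_of_set_eq hpq hpr hqr hpq' hpr' hqr' cpq cpr cqr hsame, cab.eq]
      group
    rwa [e1]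
  set H := closure {x : G | x ∈ D ∧ Commute u x} with hH
  have hHD : Cfsg.IsDSubgroup D H := by
    refine le_antisymm ((closure_le _).2 fun x hx => hx.2) ((closure_le _).2 fun x hx => ?_)
    exact subset_closure ⟨hx.1, subset_closure hx⟩
  have hle : ∀ y ∈ D, Commute a y → y ∈ H := by
    intro y hy hay
    by_cases hya : y = a
    · subst hya; exact subset_closure ⟨hy, cau.symm⟩
    · exact subset_closure ⟨hy, hua y ⟨hy, hya, hay⟩⟩
  obtain ⟨w, hw, hbw⟩ := S.noCentral hd hpair b₀ hb₀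
  obtain ⟨g, hgd, hgb⟩ := S.exists_conj_pair hd hb₀ hb.1 hab
  have hlw : g * w * g⁻¹ ∈ link D b := hgd ▸ link_conj_mem S.cls g hw
  have hnc : ¬ Commute a (g * w * g⁻¹) := fun h => hbw ((commute_conj_iff' g b₀ w).1 (hgb.symm ▸ h))
  have hconn := CfsgLib.ThreeTransp.commutingGraph_connected S.cls S.prim
    ⟨a, ha, b, hb.1, hb.2.1.symm, cab⟩
  have htop := CfsgLib.ThreeTransp.eq_top_of_centralizer_lt S.cls S.prim hconn hHD ha hle hlw.1
    (subset_closure ⟨hlw.1, hub _ hlw⟩) hnc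
  have hucen : u ∈ center G := by
    refine mem_center_iff.2 fun x => ?_
    have hle' : H ≤ centralizer {u} :=
      (closure_le _).2 fun y hy => mem_centralizer_singleton_iff.2 hy.2.eq.symm
    exact mem_centralizer_singleton_iff.1 (hle' (htop ▸ mem_top x))
  rw [S.center_bot, mem_bot, hu] at hucen
  have hπ2 : π * π = 1 := by
    rw [hπ]
    calc p * q * r * (p * q * r) = (p * q) * (p * q) * (r * r) :=
          (cpr.mul_left cqr).symm.mul_mul_mul_comm _ _
      _ = (p * p) * (q * q) * (r * r) := by rw [cpq.symm.mul_mul_mul_comm]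
      _ = 1 := by simp [CfsgLib.ThreeTrans.mul_self hset pa.1, CfsgLib.ThreeTrans.mul_self hset qa.1,
          CfsgLib.ThreeTrans.mul_self hset ra.1]
  calc π = a * b * c * π * π := by rw [hucen, one_mul]
    _ = a * b * c := by rw [mul_assoc _ π π, hπ2, mul_one]

/-- A second factorisation consists of members of the radical. -/
theorem Setting.mem_radical_of_prod_eq (S : Setting D) {a b c p q r : G} (ha : a ∈ D)
    (hb : b ∈ link D a) (hc : c ∈ link D a) (hcb : c ∈ link D b) (hp : p ∈ D) (hq : q ∈ D)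
    (hr : r ∈ D) (hpq : p ≠ q) (hpr : p ≠ r) (hqr : q ≠ r) (cpq : Commute p q) (cpr : Commute p r)
    (cqr : Commute q r) (hpa : p ≠ a) (hpb : p ≠ b) (hpc : p ≠ c) (h : p * q * r = a * b * c) :
    p ∈ radical D a b c := by
  have hset := S.cls.1
  have hpj : Commute p (a * b * c) := h ▸ ((Commute.refl p).mul_right cpq).mul_right cpr
  obtain ⟨c1, c2, c3⟩ := commute_of_commute_mul_three hset ha hb.1 hc.1 hp hb.2.1.symm hc.2.1.symm
    hcb.2.1.symm hb.2.2 hc.2.2 hcb.2.2 hpj
  refine ⟨⟨⟨⟨hp, hpa, c1.symm⟩, hp, hpb, c2.symm⟩, hp, hpc, c3.symm⟩, ?_⟩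
  rintro z ⟨⟨hza, hzb⟩, hzc⟩
  have hzj : Commute z (p * q * r) :=
    h.symm ▸ (hza.2.2.symm.mul_right hzb.2.2.symm).mul_right hzc.2.2.symm
  exact (commute_of_commute_mul_three hset hp hq hr hza.1 hpq hpr hqr cpq cpr cqr hzj).1.symm

/-- Exactly two triples have a given product. -/
theorem Setting.triple_alternatives (S : Setting D) {a b c p q r : G} (ha : a ∈ D)
    (hb : b ∈ link D a) (hc : c ∈ link D a) (hcb : c ∈ link D b)
    (hR : radical D a b c = {p, q, r}) {x y z : G} (hx : x ∈ D) (hy : y ∈ D) (hz : z ∈ D)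
    (hxy : x ≠ y) (hxz : x ≠ z) (hyz : y ≠ z) (cxy : Commute x y) (cxz : Commute x z)
    (cyz : Commute y z) (h : x * y * z = a * b * c) :
    (∀ w, w ∈ [x, y, z] ↔ w ∈ [a, b, c]) ∨ ∀ w, w ∈ [x, y, z] ↔ w ∈ [p, q, r] := by
  by_contra! hno
  obtain ⟨⟨w₁, hw₁⟩, hw₂⟩ := hno
  have common : ∀ s t u : G, s ∈ D → t ∈ D → u ∈ D → t ≠ u → Commute t u →
      s * t * u = a * b * c → (∀ k, k ∈ [s, t, u] ↔ k ∈ [x, y, z]) → s ≠ a ∧ s ≠ b ∧ s ≠ c := by
    intro s t u hs ht hu htu ctu he hm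
    have bad : (∀ k, k ∈ [s, t, u] ↔ k ∈ [a, b, c]) → False := fun hk => by
      have h1 : w₁ ∈ [x, y, z] ↔ w₁ ∈ [a, b, c] := (hm w₁).symm.trans (hk w₁)
      tauto
    refine ⟨fun hsx => bad ?_, fun hsx => bad ?_, fun hsx => bad ?_⟩
    · subst hsx
      exact S.triple_unique_of_common ht hu hb.1 hc.1 htu hcb.2.1.symm ctu hcb.2.2 he
    · subst hsx
      intro k
      rw [S.triple_unique_of_common ht hu ha hc.1 htu hc.2.1.symm ctu hc.2.2
        (he.trans (by rw [hb.2.2.eq])) k]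
      simp only [List.mem_cons, List.not_mem_nil, or_false]
      tauto
    · subst hsx
      intro k
      rw [S.triple_unique_of_common ht hu ha hb.1 htu hb.2.1.symm ctu hb.2.2
        (he.trans (by rw [mul_assoc a b, hcb.2.2.eq, ← mul_assoc, hc.2.2.eq])) k]
      simp only [List.mem_cons, List.not_mem_nil, or_false]
      tauto
  have e2 : y * x * z = a * b * c := by rw [cxy.symm.eq, h]
  have e3 : z * x * y = a * b * c := by rw [cxz.symm.eq, mul_assoc, cyz.symm.eq, ← mul_assoc, h]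
  obtain ⟨x1, x2, x3⟩ := common x y z hx hy hz hyz cyz h fun k => Iff.rfl
  obtain ⟨y1, y2, y3⟩ := common y x z hy hx hz hxz cxz e2 fun k => by
    simp only [List.mem_cons, List.not_mem_nil, or_false]; tauto
  obtain ⟨z1, z2, z3⟩ := common z x y hz hx hy hxy cxy e3 fun k => by
    simp only [List.mem_cons, List.not_mem_nil, or_false]; tauto
  have mx := S.mem_radical_of_prod_eq ha hb hc hcb hx hy hz hxy hxz hyz cxy cxz cyz x1 x2 x3 h
  have my := S.mem_radical_of_prod_eq ha hb hc hcb hy hx hz hxy.symm hyz hxz cxy.symm cyz cxz y1 y2 y3 e2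
  have mz := S.mem_radical_of_prod_eq ha hb hc hcb hz hx hy hxz.symm hyz.symm hxy cxz.symm cyz.symm cxy
    z1 z2 z3 e3
  rw [hR] at mx my mz
  have hsub : ({x, y, z} : Set G) ⊆ {p, q, r} := by
    rintro k (rfl | rfl | rfl)
    exacts [mx, my, mz]
  have hcard : ({p, q, r} : Set G).ncard ≤ ({x, y, z} : Set G).ncard := by
    rw [Set.ncard_eq_three.2 ⟨x, y, z, hxy, hxz, hyz, rfl⟩]
    exact (Set.ncard_insert_le _ _).trans (Nat.succ_le_succ ((Set.ncard_insert_le _ _).trans
      (by rw [Set.ncard_singleton])))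
  have heq := Set.eq_of_subset_of_ncard_le hsub hcard (Set.toFinite _)
  obtain ⟨w₂, hw₂⟩ := hw₂
  have h2 : w₂ ∈ [x, y, z] ↔ w₂ ∈ [p, q, r] := by simpa using Set.ext_iff.1 heq w₂
  tauto

end CfsgLib.FischerType
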