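import Cfsg.Agent.Lib.FischerType.Levels

set_option autoImplicit false

/-! Symmetries of a class of 3-transpositions. -/

namespace CfsgLib.FischerType

open Subgroup
open CfsgLib.ThreeTrans (link link_conj commute_conj_iff' conj_self_of_commute conj_conj_eq mul_self
  inv_eq braid)

variable {G : Type*} [Group G] {E : Set G}

/-- A map of a class compatible with conjugation and of order at most two. -/
structure Sym (E : Set G) (f : G → G) : Prop where
  mem : ∀ a ∈ E, f a ∈ E
  invol : ∀ a ∈ E, f (f a) = a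
  conj : ∀ a ∈ E, ∀ b ∈ E, f (a * b * a) = f a * f b * f a

/-- No member is moved to one commuting with it. -/
def Free (E : Set G) (f : G → G) : Prop := ∀ a ∈ E, f a = a ∨ ¬ Commute a (f a)

/-- A member commuting with all common neighbours of a non-commuting pair is on its line. -/
def HasLines (E : Set G) : Prop :=
  ∀ c ∈ E, ∀ d ∈ E, ¬ Commute c d → ∀ y ∈ E, (∀ t ∈ link E c ∩ link E d, Commute y t) →
    y = c ∨ y = d ∨ y = c * d * c

/-- No symmetry swaps two commuting members fixing their common neighbours. -/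
def NoSwap (E : Set G) : Prop :=
  ∀ f, Sym E f → ∀ d ∈ E, f d ≠ d → Commute d (f d) →
    (∀ t ∈ link E d ∩ link E (f d), f t = t) → False

/-- A free symmetry moving something is conjugation by a member. -/
def FreeInner (E : Set G) : Prop :=
  ∀ f, Sym E f → Free E f → ∀ p ∈ E, f p ≠ p →
    ∀ y ∈ E, f y = p * f p * p * y * (p * f p * p)

/-- The three properties together. -/
structure Good (E : Set G) : Prop where
  lines : HasLines E
  noSwap : NoSwap E
  freeInner : FreeInner E

theorem conj_mem (hc : Cfsg.IsThreeTranspositionClass E) {a b : G} (ha : a ∈ E) (hb : b ∈ E) :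
    a * b * a ∈ E := by
  have h := CfsgLib.ThreeTransp.class_conj_mem hc a hb
  rwa [inv_eq hc.1 ha] at h

theorem conj_eq_self_iff (hset : Cfsg.IsThreeTranspositionSet E) {a b : G} (ha : a ∈ E) :
    a * b * a = b ↔ Commute a b := by
  constructor
  · intro h
    calc a * b = a * b * (a * a) := by rw [mul_self hset ha, mul_one]
      _ = (a * b * a) * a := by rw [← mul_assoc]
      _ = b * a := by rw [h]
  · intro h
    rw [h.eq, mul_assoc, mul_self hset ha, mul_one]

namespace Sym

variable {f : G → G} (hf : Sym E f)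

include hf

theorem inj {a b : G} (ha : a ∈ E) (hb : b ∈ E) (h : f a = f b) : a = b := by
  rw [← hf.invol a ha, h, hf.invol b hb]

theorem commute (hc : Cfsg.IsThreeTranspositionClass E) {a b : G} (ha : a ∈ E) (hb : b ∈ E)
    (h : Commute a b) : Commute (f a) (f b) := by
  rw [← conj_eq_self_iff hc.1 (hf.mem a ha), ← hf.conj a ha b hb,
    (conj_eq_self_iff hc.1 ha).2 h]

theorem commute_iff (hc : Cfsg.IsThreeTranspositionClass E) {a b : G} (ha : a ∈ E) (hb : b ∈ E) :
    Commute (f a) (f b) ↔ Commute a b := by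
  refine ⟨fun h => ?_, hf.commute hc ha hb⟩
  have h' := hf.commute hc (hf.mem a ha) (hf.mem b hb) h
  rwa [hf.invol a ha, hf.invol b hb] at h'

theorem map_link (hc : Cfsg.IsThreeTranspositionClass E) {c w : G} (hcE : c ∈ E)
    (hw : w ∈ link E c) : f w ∈ link E (f c) :=
  ⟨hf.mem w hw.1, fun h => hw.2.1 (hf.inj hw.1 hcE h), hf.commute hc hcE hw.1 hw.2.2⟩

/-- The third member of a moved non-commuting pair is fixed. -/
theorem fix_third (hc : Cfsg.IsThreeTranspositionClass E) {p : G} (hp : p ∈ E)
    (h : ¬ Commute p (f p)) : f (p * f p * p) = p * f p * p := by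
  rw [hf.conj p hp (f p) (hf.mem p hp), hf.invol p hp]
  exact (braid hc.1 hp (hf.mem p hp) h).symm

/-- The symmetry conjugated by an element. -/
theorem conj_sym (hc : Cfsg.IsThreeTranspositionClass E) (g : G) :
    Sym E (fun y => g * f (g⁻¹ * y * g) * g⁻¹) := by
  have hm : ∀ {y}, y ∈ E → g⁻¹ * y * g ∈ E := fun {y} hy => by
    simpa using CfsgLib.ThreeTransp.class_conj_mem hc g⁻¹ hy
  refine ⟨fun a ha => CfsgLib.ThreeTransp.class_conj_mem hc g (hf.mem _ (hm ha)), fun a ha => ?_,
    fun a ha b hb => ?_⟩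
  · show g * f (g⁻¹ * (g * f (g⁻¹ * a * g) * g⁻¹) * g) * g⁻¹ = a
    rw [show g⁻¹ * (g * f (g⁻¹ * a * g) * g⁻¹) * g = f (g⁻¹ * a * g) by group,
      hf.invol _ (hm ha)]
    group
  · show g * f (g⁻¹ * (a * b * a) * g) * g⁻¹ = _
    rw [show g⁻¹ * (a * b * a) * g = (g⁻¹ * a * g) * (g⁻¹ * b * g) * (g⁻¹ * a * g) by group,
      hf.conj _ (hm ha) _ (hm hb)]
    group

/-- Composing with a fixed member. -/
theorem mul_fixed (hc : Cfsg.IsThreeTranspositionClass E) {x : G} (hx : x ∈ E) (hfx : f x = x) :
    Sym E (fun y => x * f y * x) := by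
  have x2 := mul_self hc.1 hx
  refine ⟨fun a ha => conj_mem hc hx (hf.mem a ha), fun a ha => ?_, fun a ha b hb => ?_⟩
  · show x * f (x * f a * x) * x = a
    rw [hf.conj x hx _ (hf.mem a ha), hfx, hf.invol a ha, ← mul_assoc, ← mul_assoc, x2, one_mul,
      mul_assoc, x2, mul_one]
  · show x * f (a * b * a) * x = _
    rw [hf.conj a ha b hb]
    calc x * (f a * f b * f a) * x = x * f a * 1 * f b * 1 * f a * x := by
          simp only [mul_one, mul_assoc]
      _ = x * f a * (x * x) * f b * (x * x) * f a * x := by rw [x2]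
      _ = _ := by simp only [mul_assoc]

end Sym

theorem exists_conj_self {x p : G} (hset : Cfsg.IsThreeTranspositionSet E) {p' : G} (hp : p ∈ E)
    (hp' : p' ∈ E) (h : ¬ Commute p p') (hx : x = p * p' * p) : x * p * x = p' := by
  have p2 := mul_self hset hp
  have hb := braid hset hp hp' h
  calc x * p * x = p * p' * (p * p) * p * p' * p := by rw [hx]; simp only [mul_assoc]
    _ = p * (p' * p * p') * p := by rw [p2, mul_one]; simp only [mul_assoc]
    _ = (p * p) * p' * (p * p) := by rw [← hb]; simp only [mul_assoc]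
    _ = p' := by rw [p2, one_mul, mul_one]

variable [Finite G]

namespace Setting

variable (S : Setting E)

include S

/-- Two commuting members have a member commuting with neither. -/
theorem exists_not_commute_both {a b : G} (ha : a ∈ E) (hb : b ∈ link E a) :
    ∃ d ∈ E, ¬ Commute d a ∧ ¬ Commute d b := by
  by_contra! hno
  obtain ⟨c, hc, hac⟩ := CfsgLib.ThreeTransp.exists_not_commute S.cls S.prim.2.1 ha
  refine CfsgLib.ThreeTrans.not_commute_all S.cls S.prim ha hb.1 hb.2.1 hb.2.2 hc hac
    {z | z ∈ E ∧ ¬ Commute a z}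
    (fun g hg z hz => ⟨CfsgLib.ThreeTransp.class_conj_mem S.cls g hz.1, fun h => hz.2 ?_⟩) ⟨hc, hac⟩
    (fun z hz => (hno z hz.1 fun h => hz.2 h.symm).symm)
  rw [← conj_self_of_commute hg] at h
  exact (commute_conj_iff' g a z).1 h

/-- A symmetry fixing a member and its link is trivial or conjugation by it. -/
theorem extend (hl : HasLines E) {h : G → G} (hh : Sym E h) {c w : G} (hc : c ∈ E)
    (hw : w ∈ link E c) (hfc : h c = c) (hfix : ∀ t ∈ link E c, h t = t) :
    (∀ y ∈ E, h y = y) ∨ ∀ y ∈ E, ¬ Commute c y → h y = c * y * c := by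
  have key : ∀ d ∈ E, ¬ Commute c d → h d = d ∨ h d = c * d * c := by
    intro d hd hcd
    rcases hl c hc d hd hcd (h d) (hh.mem d hd) (fun t ht => by
      rw [← hfix t ht.1]
      exact hh.commute S.cls hd ht.1.1 ht.2.2.2) with h1 | h1 | h1
    · exact absurd (hh.inj hd hc (h1.trans hfc.symm)) (fun h2 => hcd (h2 ▸ Commute.refl _))
    · exact Or.inl h1
    · exact Or.inr h1
  by_cases hex : ∃ d ∈ E, ¬ Commute c d ∧ h d = d
  · obtain ⟨d, hd, hcd, hfd⟩ := hex
    left
    set P : Set G := {y | y ∈ E ∧ h y = y}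
    have hPc : ∀ q ∈ P, ∀ z ∈ P, q * z * q⁻¹ ∈ P := by
      intro q hq z hz
      rw [inv_eq S.cls.1 hq.1]
      exact ⟨conj_mem S.cls hq.1 hz.1, by rw [hh.conj q hq.1 z hz.1, hq.2, hz.2]⟩
    set H := closure P with hH
    have hHD : Cfsg.IsDSubgroup E H := by
      refine le_antisymm ((closure_le _).2 fun x hx => hx.2) ((closure_le _).2 fun x hx => ?_)
      exact subset_closure ⟨hx.1, subset_closure hx⟩
    have hle : ∀ y ∈ E, Commute c y → y ∈ H := by
      intro y hy hcy
      refine subset_closure ⟨hy, ?_⟩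
      by_cases hyc : y = c
      · rw [hyc, hfc]
      · exact hfix y ⟨hy, hyc, hcy⟩
    have htop : H = ⊤ := CfsgLib.ThreeTransp.eq_top_of_centralizer_lt S.cls S.prim
      (CfsgLib.ThreeTransp.commutingGraph_connected S.cls S.prim
        ⟨c, hc, w, hw.1, hw.2.1.symm, hw.2.2⟩) hHD hc hle hd (subset_closure ⟨hd, hfd⟩) hcd
    have horb : ∀ g ∈ H, ∀ z ∈ P, g * z * g⁻¹ ∈ P := by
      intro g hg
      induction hg using closure_induction'' with
      | mem q hq => exact hPc q hq
      | inv_mem q hq => rw [inv_eq S.cls.1 hq.1]; exact hPc q hq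
      | one => intro z hz; simpa using hz
      | mul m n _ _ ihm ihn => intro z hz; rw [← conj_conj_eq]; exact ihm _ (ihn z hz)
    intro y hy
    obtain ⟨g, rfl⟩ := CfsgLib.ThreeTransp.class_conj S.cls hc hy
    exact (horb g (htop ▸ mem_top g) c ⟨hc, hfc⟩).2
  · push Not at hex
    exact Or.inr fun d hd hcd => (key d hd hcd).resolve_left (hex d hd hcd)

end Setting

end CfsgLib.FischerType
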