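import Cfsg.Agent.Lib.FischerType.Line
import Cfsg.Agent.Lib.FischerType.Sym

set_option autoImplicit false

/-! Lines and symmetries of the transvections of the unitary space of dimension six. -/

namespace CfsgLib.FischerType.U6

open Module CfsgLib.Classical.Herm HermSpace CfsgLib.UnitaryTransv CfsgLib.U6Cover
open CfsgLib.ThreeTrans (link)

variable {F : Type*} [Field F] [Fintype F] (hF : Fintype.card F = 2 ^ 2)

local notation "𝓗" => stdHerm hF 6
local notation "𝕍" => (Fin 6 → F)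

theorem value_cases (x : 𝕍) : (𝓗).h x x = 0 ∨ (𝓗).h x x = 1 := by
  by_cases h : (𝓗).h x x = 0
  · exact Or.inl h
  · refine Or.inr (fixed_eq_one hF ?_ h)
    have := (𝓗).conj_diag x
    rwa [stdHerm_conj] at this

theorem form_zero_of_isotropic (W : Submodule F 𝕍) (hiso : ∀ x ∈ W, (𝓗).h x x = 0) :
    ∀ x ∈ W, ∀ y ∈ W, (𝓗).h x y = 0 := by
  intro x hx y hy
  obtain ⟨t, ht⟩ := (𝓗).exists_trace_one
  have e1 : (𝓗).h y x = -(𝓗).h x y := by
    have := hiso (x + y) (W.add_mem hx hy)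
    rw [(𝓗).add_left, (𝓗).add_right, (𝓗).add_right, hiso x hx, hiso y hy] at this
    linear_combination this
  have := hiso (t • x + y) (W.add_mem (W.smul_mem t hx) hy)
  rw [(𝓗).add_left, (𝓗).add_right, (𝓗).add_right, (𝓗).smul_left, (𝓗).smul_left, (𝓗).smul_right,
    (𝓗).smul_right, hiso x hx, hiso y hy, e1] at this
  have e2 : (t - (𝓗).conj t) * (𝓗).h x y = 0 := by linear_combination this
  refine (mul_eq_zero.1 e2).resolve_left fun h => ?_
  have h3 : t + t = 1 := by linear_combination ht + h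
  rw [add_self_zero hF] at h3
  exact zero_ne_one h3

theorem finrank_add_le (A B : Submodule F 𝕍) (h : ∀ a ∈ A, ∀ b ∈ B, (𝓗).h a b = 0) :
    finrank F A + finrank F B ≤ 6 := by
  classical
  have : Finite (Dual F 𝕍) := Module.finite_of_finite F
  let j : B → A.dualAnnihilator := fun w =>
    ⟨(𝓗).form w.1, by rw [Submodule.mem_dualAnnihilator]; exact fun x hx => h x hx w.1 w.2⟩
  have hj : Function.Injective j := fun a b e => by
    apply Subtype.ext
    rw [← sub_eq_zero]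
    refine (𝓗).nondeg _ fun y => (𝓗).h_comm_zero ?_
    have e' := LinearMap.congr_fun (congrArg Subtype.val e) y
    simp only [j, HermSpace.form_apply] at e'
    rw [(𝓗).sub_right, e', sub_self]
  have hle := Nat.card_le_card_of_injective j hj
  rw [Module.natCard_eq_pow_finrank (K := F),
    Module.natCard_eq_pow_finrank (K := F) (V := A.dualAnnihilator),
    Nat.card_eq_fintype_card, hF] at hle
  have h1 := (Nat.pow_le_pow_iff_right (a := 2 ^ 2) (by norm_num)).1 hle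
  have h2 := Subspace.finrank_add_finrank_dualAnnihilator_eq A
  rw [finrank_fin_fun] at h2
  omega

theorem finrank_ker_pi {k : ℕ} (φ : Fin k → 𝕍 →ₗ[F] F) :
    6 ≤ finrank F (LinearMap.ker (LinearMap.pi φ)) + k := by
  have h1 := LinearMap.finrank_range_add_finrank_ker (LinearMap.pi φ)
  have h2 := Submodule.finrank_le (LinearMap.range (LinearMap.pi φ))
  rw [finrank_fin_fun] at h1 h2
  omega

theorem exists_kernel_vector {k : ℕ} (φ : Fin k → 𝕍 →ₗ[F] F) (hk : k < 6) :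
    ∃ x : 𝕍, x ≠ 0 ∧ ∀ i, φ i x = 0 := by
  have h := finrank_ker_pi φ
  have hpos : 0 < finrank F (LinearMap.ker (LinearMap.pi φ)) := by omega
  haveI := Module.finrank_pos_iff.1 hpos
  obtain ⟨⟨x, hx⟩, hx0⟩ := exists_ne (0 : LinearMap.ker (LinearMap.pi φ))
  exact ⟨x, fun h => hx0 (Subtype.ext h), fun i => congrFun (LinearMap.mem_ker.1 hx) i⟩

theorem exists_norm_orth {a b k : 𝕍} (hka : (𝓗).h k a = 0) (hkb : (𝓗).h k b = 0)
    (hk : (𝓗).h k k = 1) :
    ∃ s, (𝓗).h s a = 0 ∧ (𝓗).h s b = 0 ∧ (𝓗).h s k = 0 ∧ (𝓗).h s s = 1 := by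
  set S := LinearMap.ker (LinearMap.pi ![(𝓗).form a, (𝓗).form b, (𝓗).form k]) with hS
  have hmem : ∀ x ∈ S, (𝓗).h x a = 0 ∧ (𝓗).h x b = 0 ∧ (𝓗).h x k = 0 := by
    intro x hx
    have h := LinearMap.mem_ker.1 hx
    exact ⟨by simpa using congrFun h 0, by simpa using congrFun h 1, by simpa using congrFun h 2⟩
  by_contra hno
  push Not at hno
  have hiso : ∀ x ∈ S, (𝓗).h x x = 0 := fun x hx => by
    obtain ⟨h1, h2, h3⟩ := hmem x hx
    exact (value_cases hF x).resolve_right (hno x h1 h2 h3)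
  have h0 := form_zero_of_isotropic hF S hiso
  have hkS : k ∉ S := fun h => one_ne_zero (hk.symm.trans (hmem k h).2.2)
  set B := S ⊔ Submodule.span F {k} with hB
  have hlt : S < B := lt_of_le_of_ne le_sup_left fun h => hkS (by
    rw [h]; exact Submodule.mem_sup_right (Submodule.mem_span_singleton_self k))
  have horth : ∀ x ∈ S, ∀ y ∈ B, (𝓗).h x y = 0 := by
    intro x hx y hy
    obtain ⟨p, hp, q, hq, rfl⟩ := Submodule.mem_sup.1 hy
    obtain ⟨t, rfl⟩ := Submodule.mem_span_singleton.1 hq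
    rw [(𝓗).add_right, (𝓗).smul_right, h0 x hx p hp, (hmem x hx).2.2, mul_zero, add_zero]
  have h1 := finrank_add_le hF S B horth
  have h2 := Submodule.finrank_lt_finrank_of_lt hlt
  have h3 := finrank_ker_pi ![(𝓗).form a, (𝓗).form b, (𝓗).form k]
  rw [← hS] at h3
  omega

/-- The isotropic vectors orthogonal to two given ones span everything orthogonal to them. -/
theorem span_perp {a b y : 𝕍} (h : ∀ k, k ≠ 0 → (𝓗).h k k = 0 → (𝓗).h k a = 0 →
    (𝓗).h k b = 0 → (𝓗).h y k = 0) {k : 𝕍} (hka : (𝓗).h k a = 0) (hkb : (𝓗).h k b = 0) :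
    (𝓗).h y k = 0 := by
  rcases value_cases hF k with hk | hk
  · by_cases hk0 : k = 0
    · rw [hk0, (𝓗).zero_right]
    · exact h k hk0 hk hka hkb
  obtain ⟨s, hsa, hsb, hsk, hss⟩ := exists_norm_orth hF hka hkb hk
  obtain ⟨ω, hω0, hω1⟩ := exists_not_zero_one hF
  have key : ∀ t : F, t ≠ 0 → (𝓗).h y (k + t • s) = 0 := by
    intro t ht
    refine h _ (fun h0 => ?_) ?_ ?_ ?_
    · have h1 : (𝓗).h (k + t • s) k = 0 := by rw [h0, (𝓗).zero_left]
      rw [(𝓗).add_left, (𝓗).smul_left, hsk, mul_zero, add_zero, hk] at h1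
      exact one_ne_zero h1
    · rw [(𝓗).add_left, (𝓗).add_right, (𝓗).add_right, (𝓗).smul_left, (𝓗).smul_left,
        (𝓗).smul_right, (𝓗).smul_right, hk, hss, hsk, (𝓗).h_comm_zero hsk, stdHerm_conj]
      linear_combination CfsgLib.UnitaryTransv.pow_three hF ht + two_eq_zero hF
    · rw [(𝓗).add_left, (𝓗).smul_left, hka, hsa, mul_zero, add_zero]
    · rw [(𝓗).add_left, (𝓗).smul_left, hkb, hsb, mul_zero, add_zero]
  have e1 := key 1 one_ne_zero
  have e2 := key ω hω0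
  rw [(𝓗).add_right, (𝓗).smul_right, map_one, one_mul] at e1
  rw [(𝓗).add_right, (𝓗).smul_right, stdHerm_conj] at e2
  have e3 : (ω ^ 2 - 1) * (𝓗).h y s = 0 := by linear_combination e2 - e1
  have hne : ω ^ 2 - 1 ≠ 0 := fun h2 => hω1 (by
    have h3 : (ω - 1) * (ω - 1) = 0 := by linear_combination h2 + (1 - ω) * two_eq_zero hF
    exact sub_eq_zero.1 (mul_self_eq_zero.1 h3))
  have e4 := (mul_eq_zero.1 e3).resolve_left hne
  rwa [e4, add_zero] at e1

/-- A vector orthogonal to all isotropic vectors orthogonal to a pair spanning a hyperbolic line lies in it. -/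
theorem eq_comb_hpair {u v y : 𝕍} (hu : (𝓗).h u u = 0) (hv : (𝓗).h v v = 0)
    (huv : (𝓗).h u v = 1)
    (h : ∀ k, k ≠ 0 → (𝓗).h k k = 0 → (𝓗).h k u = 0 → (𝓗).h k v = 0 → (𝓗).h y k = 0) :
    y = (𝓗).h y v • u + (𝓗).h y u • v := by
  rw [← sub_eq_zero]
  have hvu := (𝓗).h_comm_one huv
  set y' := y - ((𝓗).h y v • u + (𝓗).h y u • v) with hy'
  refine (𝓗).nondeg _ fun x => ?_
  set k := x - ((𝓗).h x v • u + (𝓗).h x u • v) with hk
  have hku : (𝓗).h k u = 0 := by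
    simp [-stdHerm_h, hk, (𝓗).sub_left, (𝓗).add_left, (𝓗).smul_left, hu, hvu]
  have hkv : (𝓗).h k v = 0 := by
    simp [-stdHerm_h, hk, (𝓗).sub_left, (𝓗).add_left, (𝓗).smul_left, hv, huv]
  have hyk := span_perp hF h hku hkv
  have hx : x = k + ((𝓗).h x v • u + (𝓗).h x u • v) := by rw [hk]; abel
  have h1 : (𝓗).h y' k = 0 := by
    rw [hy', (𝓗).sub_left, (𝓗).add_left, (𝓗).smul_left, (𝓗).smul_left, hyk,
      (𝓗).h_comm_zero hku, (𝓗).h_comm_zero hkv]
    simp [-stdHerm_h]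
  have h2 : (𝓗).h y' u = 0 := by
    simp [-stdHerm_h, hy', (𝓗).sub_left, (𝓗).add_left, (𝓗).smul_left, hu, hvu]
  have h3 : (𝓗).h y' v = 0 := by
    simp [-stdHerm_h, hy', (𝓗).sub_left, (𝓗).add_left, (𝓗).smul_left, hv, huv]
  rw [hx, (𝓗).add_right, (𝓗).add_right, (𝓗).smul_right, (𝓗).smul_right, h1, h2, h3]
  simp [-stdHerm_h]

/-- The same for an orthogonal independent pair. -/
theorem exists_comb_line {a b z : 𝕍} (hb0 : b ≠ 0) (hind : ∀ c : F, c • b ≠ a)
    (h : ∀ k, k ≠ 0 → (𝓗).h k k = 0 → (𝓗).h k a = 0 → (𝓗).h k b = 0 → (𝓗).h z k = 0) :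
    ∃ α β : F, z = α • a + β • b := by
  obtain ⟨x₁, h11, h12⟩ := (𝓗).exists_h_pair hb0 hind 1 0
  obtain ⟨x₂, h21, h22⟩ := (𝓗).exists_h_pair hb0 hind 0 1
  refine ⟨(𝓗).h z x₁, (𝓗).h z x₂, ?_⟩
  rw [← sub_eq_zero]
  refine (𝓗).nondeg _ fun x => ?_
  have hk := span_perp hF h
    (k := x - ((𝓗).h x a • x₁ + (𝓗).h x b • x₂))
    (by simp [-stdHerm_h, (𝓗).sub_left, (𝓗).add_left, (𝓗).smul_left, h11, h21])
    (by simp [-stdHerm_h, (𝓗).sub_left, (𝓗).add_left, (𝓗).smul_left, h12, h22])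
  rw [(𝓗).sub_right, (𝓗).add_right, (𝓗).smul_right, (𝓗).smul_right, (𝓗).symm', (𝓗).symm'] at hk
  rw [(𝓗).sub_left, (𝓗).add_left, (𝓗).smul_left, (𝓗).smul_left]
  linear_combination hk

/-- An isotropic vector orthogonal to `b` but not to `a`, unless `a` is a multiple of `b`. -/
theorem exists_separating {a b : 𝕍} (hb0 : b ≠ 0) (hind : ∀ c : F, c • b ≠ a) :
    ∃ y, y ≠ 0 ∧ (𝓗).h y y = 0 ∧ (𝓗).h y b = 0 ∧ (𝓗).h y a ≠ 0 := by
  by_contra! hall
  obtain ⟨x, hx⟩ := (𝓗).exists_h_one hb0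
  refine hind ((𝓗).h a x) ?_
  rw [← sub_eq_zero]
  refine (𝓗).nondeg _ fun z => ?_
  have hk := span_perp hF (a := b) (b := b) (y := a)
    (fun k h0 h1 h2 _ => (𝓗).h_comm_zero (hall k h0 h1 h2)) (k := z - (𝓗).h z b • x)
    (by simp [-stdHerm_h, (𝓗).sub_left, (𝓗).smul_left, hx]) (by simp [-stdHerm_h, (𝓗).sub_left, (𝓗).smul_left, hx])
  rw [(𝓗).sub_right, (𝓗).smul_right, (𝓗).symm'] at hk
  rw [(𝓗).sub_left, (𝓗).smul_left]
  linear_combination -hk

theorem independent_of_ne {a b : 𝕍} (ha : (𝓗).h a a = 0) (ha0 : a ≠ 0) (hb : (𝓗).h b b = 0)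
    (hne : ptv hF a ha ≠ ptv hF b hb) : ∀ c : F, c • b ≠ a := by
  intro c hc
  have hc0 : c ≠ 0 := fun h => ha0 (by rw [← hc, h, zero_smul])
  exact hne (congrArg (proj hF) (Subtype.ext (tv_smul hF hc0 hb ha hc.symm)))

theorem ne_of_independent {a b : 𝕍} (ha : (𝓗).h a a = 0) (hb : (𝓗).h b b = 0) (hb0 : b ≠ 0)
    (hind : ∀ c : F, c • b ≠ a) : ptv hF a ha ≠ ptv hF b hb := by
  obtain ⟨y, hy0, hy, h1, h2⟩ := exists_separating hF hb0 hind
  exact (ne_ptv hF hb ha hy hy0 h1 h2).symm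

/-- Scaling a non-orthogonal pair. -/
theorem exists_scaled {u v : 𝕍} (hv : (𝓗).h v v = 0) (hv0 : v ≠ 0) (h : (𝓗).h u v ≠ 0) :
    ∃ w : 𝕍, ∃ hw : (𝓗).h w w = 0, w ≠ 0 ∧ (𝓗).h u w = 1 ∧ ptv hF w hw = ptv hF v hv := by
  set c := (𝓗).h u v with hc
  have hw : (𝓗).h (c • v) (c • v) = 0 := by rw [(𝓗).smul_left, (𝓗).smul_right, hv, mul_zero, mul_zero]
  refine ⟨c • v, hw, smul_ne_zero h hv0, ?_, ?_⟩
  · rw [(𝓗).smul_right, ← hc, stdHerm_conj]
    linear_combination CfsgLib.UnitaryTransv.pow_three hF h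
  · exact congrArg (proj hF) (Subtype.ext (tv_smul hF h hv hw rfl))

theorem ptv_third {u v : 𝕍} (hu : (𝓗).h u u = 0) (hv : (𝓗).h v v = 0) (h : (𝓗).h v u = 1)
    (hw : (𝓗).h (u + v) (u + v) = 0) :
    ptv hF u hu * ptv hF v hv * ptv hF u hu = ptv hF (u + v) hw := by
  simp only [ptv, ← map_mul]
  refine congrArg _ (Subtype.ext ?_)
  show tv hF u hu * tv hF v hv * tv hF u hu = tv hF (u + v) hw
  have e1 := tv_conj hF (tv hF u hu) v hv
  rw [tv_inv] at e1
  rw [e1]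
  exact tv_congr hF _ _ (by rw [tv_apply, h, one_smul, add_comm])

theorem tvSet_hasLines : HasLines (tvSet hF (n := 6)) := by
  rintro _ ⟨u, hu, hu0, rfl⟩ _ ⟨v₀, hv₀, hv₀0, rfl⟩ hnc _ ⟨y, hy, hy0, rfl⟩ hall
  have hne : (𝓗).h u v₀ ≠ 0 := fun h => hnc (commute_ptv hF hu hv₀ ((𝓗).h_comm_zero h))
  obtain ⟨v, hv, hv0, huv, hveq⟩ := exists_scaled hF hv₀ hv₀0 hne
  rw [← hveq] at hall ⊢
  have hvu := (𝓗).h_comm_one huv
  have key := eq_comb_hpair hF hu hv huv (y := y) (fun k hk0 hk hku hkv => by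
    refine orth_of_commute_ptv hF hk hy hy0 ?_
    refine (hall (ptv hF k hk) ⟨⟨ptv_mem hF hk hk0, fun h => ?_, commute_ptv hF hu hk hku⟩,
      ptv_mem hF hk hk0, fun h => ?_, commute_ptv hF hv hk hkv⟩).symm
    · have hc := commute_ptv hF hk hv ((𝓗).h_comm_zero hkv)
      rw [h] at hc
      exact one_ne_zero (hvu.symm.trans (orth_of_commute_ptv hF hu hv hv0 hc))
    · have hc := commute_ptv hF hk hu ((𝓗).h_comm_zero hku)
      rw [h] at hc
      exact one_ne_zero (huv.symm.trans (orth_of_commute_ptv hF hv hu hu0 hc)))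
  set α := (𝓗).h y v
  set β := (𝓗).h y u
  by_cases hα : α = 0
  · refine Or.inr (Or.inl ?_)
    rw [hα, zero_smul, zero_add] at key
    exact congrArg (proj hF) (Subtype.ext (tv_smul hF (fun h => hy0 (by rw [key, h, zero_smul])) hv hy key))
  by_cases hβ : β = 0
  · refine Or.inl ?_
    rw [hβ, zero_smul, add_zero] at key
    exact congrArg (proj hF) (Subtype.ext (tv_smul hF hα hu hy key))
  refine Or.inr (Or.inr ?_)
  have hiso := hy
  rw [key, (𝓗).add_left, (𝓗).add_right, (𝓗).add_right, (𝓗).smul_left, (𝓗).smul_left,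
    (𝓗).smul_left, (𝓗).smul_left, (𝓗).smul_right, (𝓗).smul_right, (𝓗).smul_right, (𝓗).smul_right,
    hu, hv, huv, hvu, stdHerm_conj, stdHerm_conj] at hiso
  have hab : α = β := by
    have h1 : α * β * (α - β) = 0 := by linear_combination hiso - α * β ^ 2 * two_eq_zero hF
    rcases mul_eq_zero.1 h1 with h2 | h2
    · exact absurd h2 (mul_ne_zero hα hβ)
    · exact sub_eq_zero.1 h2
  have hw : (𝓗).h (u + v) (u + v) = 0 := by
    rw [(𝓗).add_left, (𝓗).add_right, (𝓗).add_right, hu, hv, huv, hvu]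
    linear_combination two_eq_zero hF
  rw [ptv_third hF hu hv hvu hw]
  exact congrArg (proj hF) (Subtype.ext (tv_smul hF hα hw hy (by rw [key, ← hab, smul_add])))

theorem tvSet_noSwap (hcls : Cfsg.IsThreeTranspositionClass (tvSet hF (n := 6))) :
    NoSwap (tvSet hF (n := 6)) := by
  rintro f hf _ ⟨a, ha, ha0, rfl⟩ hmov hcom hfix
  obtain ⟨b, hb, hb0, hbe⟩ := hf.mem _ (ptv_mem hF ha ha0)
  rw [← hbe] at hmov hcom hfix
  have hab : (𝓗).h b a = 0 := orth_of_commute_ptv hF ha hb hb0 hcom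
  have hind := independent_of_ne hF ha ha0 hb (Ne.symm hmov)
  obtain ⟨y, hy0, hy, hyb, hya⟩ := exists_separating hF hb0 hind
  obtain ⟨z, hz, hz0, hze⟩ := hf.mem _ (ptv_mem hF hy hy0)
  have hfb : f (ptv hF b hb) = ptv hF a ha := by
    rw [hbe]; exact hf.invol _ (ptv_mem hF ha ha0)
  have hzb : (𝓗).h z b ≠ 0 := fun h => hya (by
    have h1 : Commute (f (ptv hF a ha)) (f (ptv hF y hy)) := by
      rw [← hbe, ← hze]; exact commute_ptv hF hb hz h
    exact orth_of_commute_ptv hF ha hy hy0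
      ((hf.commute_iff hcls (ptv_mem hF ha ha0) (ptv_mem hF hy hy0)).1 h1))
  obtain ⟨i₀, hi₀⟩ : ∃ i, b i ≠ 0 := Function.ne_iff.1 hb0
  set φ : Fin 4 → 𝕍 →ₗ[F] F := ![(𝓗).form a, (𝓗).form b, (𝓗).form y, LinearMap.proj i₀] with hφ
  have hM : ∀ s, (∀ i, φ i s = 0) →
      (𝓗).h s a = 0 ∧ (𝓗).h s b = 0 ∧ (𝓗).h s y = 0 ∧ s i₀ = 0 := fun s hs =>
    ⟨by simpa [-stdHerm_h, hφ] using hs 0, by simpa [-stdHerm_h, hφ] using hs 1, by simpa [-stdHerm_h, hφ] using hs 2,
      by simpa [-stdHerm_h, hφ] using hs 3⟩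
  obtain ⟨s, hs0, hss, hsM⟩ : ∃ s, s ≠ 0 ∧ (𝓗).h s s = 0 ∧ ∀ i, φ i s = 0 := by
    obtain ⟨p, hp0, hp⟩ := exists_kernel_vector φ (by norm_num)
    rcases value_cases hF p with hpp | hpp
    · exact ⟨p, hp0, hpp, hp⟩
    obtain ⟨q, hq0, hq⟩ := exists_kernel_vector (Fin.snoc φ ((𝓗).form p)) (by norm_num)
    have hqi : ∀ i, φ i q = 0 := fun i => by simpa using hq i.castSucc
    have hqp : (𝓗).h q p = 0 := by
      have := hq (Fin.last 4)
      rw [Fin.snoc_last] at this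
      exact this
    rcases value_cases hF q with hqq | hqq
    · exact ⟨q, hq0, hqq, hqi⟩
    refine ⟨p + q, fun h => one_ne_zero (α := F) ?_, ?_, fun i => ?_⟩
    · have h1 : (𝓗).h (p + q) p = 0 := by rw [h, (𝓗).zero_left]
      rw [(𝓗).add_left, hqp, hpp, add_zero] at h1
      exact h1
    · rw [(𝓗).add_left, (𝓗).add_right, (𝓗).add_right, hpp, hqq, hqp, (𝓗).h_comm_zero hqp]
      linear_combination two_eq_zero hF
    · rw [map_add, hp i, hqi i, add_zero]
  obtain ⟨hsa, hsb, hsy, hsi⟩ := hM s hsM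
  have hsb' : ∀ c : F, c • b ≠ s := fun c hc => by
    have := congrFun hc i₀
    rw [Pi.smul_apply, smul_eq_mul, hsi] at this
    rcases mul_eq_zero.1 this with h | h
    · exact hs0 (by rw [← hc, h, zero_smul])
    · exact hi₀ h
  have key : ∀ s' : 𝕍, ∀ hs' : (𝓗).h s' s' = 0, s' ≠ 0 → (𝓗).h s' a = 0 → (𝓗).h s' b = 0 →
      (𝓗).h s' y = 0 → (∀ c : F, c • b ≠ s') → (𝓗).h z s' = 0 := by
    intro s' hs' hs'0 h1 h2 h3 h4
    have hm : ptv hF s' hs' ∈ link (tvSet hF) (ptv hF a ha) ∩ link (tvSet hF) (ptv hF b hb) :=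
      ⟨⟨ptv_mem hF hs' hs'0, ne_ptv hF hs' ha hy hy0 ((𝓗).h_comm_zero h3) hya,
        commute_ptv hF ha hs' h1⟩,
        ptv_mem hF hs' hs'0, ne_of_independent hF hs' hb hb0 h4, commute_ptv hF hb hs' h2⟩
    have hc := hf.commute hcls (ptv_mem hF hs' hs'0) (ptv_mem hF hy hy0)
      (commute_ptv hF hs' hy ((𝓗).h_comm_zero h3))
    rw [hfix _ hm, ← hze] at hc
    exact orth_of_commute_ptv hF hs' hz hz0 hc
  have k1 := key s hss hs0 hsa hsb hsy hsb'
  have k2 := key (s + b)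
    (by rw [(𝓗).add_left, (𝓗).add_right, (𝓗).add_right, hss, hb, hsb, (𝓗).h_comm_zero hsb]; simp [-stdHerm_h])
    (fun h => hsb' 1 (by rw [one_smul, ← sub_eq_zero, sub_eq_add_neg,
      show -s = s from neg_eq_of_add_eq_zero_left (smul_add_self_zero hF s), add_comm, h]))
    (by rw [(𝓗).add_left, hsa, hab, add_zero]) (by rw [(𝓗).add_left, hsb, hb, add_zero])
    (by rw [(𝓗).add_left, hsy, (𝓗).h_comm_zero hyb, add_zero])
    (fun c hc => hsb' (c - 1) (by rw [sub_smul, one_smul, hc, add_sub_cancel_right]))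
  rw [(𝓗).add_right, k1, zero_add] at k2
  exact hzb k2

/-- A free symmetry fixes everything orthogonal to the third member of a moved pair. -/
theorem tvSet_fix_link (hcls : Cfsg.IsThreeTranspositionClass (tvSet hF (n := 6)))
    {f : Cfsg.PSU 6 F 2 → Cfsg.PSU 6 F 2} (hf : Sym (tvSet hF (n := 6)) f)
    (hfree : Free (tvSet hF (n := 6)) f) {p : Cfsg.PSU 6 F 2} (hp : p ∈ tvSet hF (n := 6))
    (hmov : f p ≠ p) :
    ∀ q ∈ link (tvSet hF (n := 6)) (p * f p * p), f q = q := by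
  obtain ⟨u, hu, hu0, rfl⟩ := hp
  obtain ⟨v₀, hv₀, hv₀0, hv₀e⟩ := hf.mem _ (ptv_mem hF hu hu0)
  have hnc := (hfree _ (ptv_mem hF hu hu0)).resolve_left hmov
  rw [← hv₀e] at hnc
  obtain ⟨v, hv, hv0, huv, hve⟩ := exists_scaled hF hv₀ hv₀0
    (fun h => hnc (commute_ptv hF hu hv₀ ((𝓗).h_comm_zero h)))
  have hfu : f (ptv hF u hu) = ptv hF v hv := by rw [hve, hv₀e]
  have hvu := (𝓗).h_comm_one huv
  have hfv : f (ptv hF v hv) = ptv hF u hu := by rw [← hfu, hf.invol _ (ptv_mem hF hu hu0)]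
  have z2 := add_self_zero hF (1 : F)
  have hX : (𝓗).h (u + v) (u + v) = 0 := by
    rw [(𝓗).add_left, (𝓗).add_right, (𝓗).add_right, hu, hv, huv, hvu]
    linear_combination two_eq_zero hF
  have hXu : (𝓗).h (u + v) u = 1 := by rw [(𝓗).add_left, hu, hvu, zero_add]
  have hXv : (𝓗).h (u + v) v = 1 := by rw [(𝓗).add_left, hv, huv, add_zero]
  have hX0 : u + v ≠ 0 := fun h => by rw [h, (𝓗).zero_left] at hXu; exact zero_ne_one hXu
  have hxe : ptv hF u hu * f (ptv hF u hu) * ptv hF u hu = ptv hF (u + v) hX := by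
    rw [hfu]; exact ptv_third hF hu hv hvu hX
  have hfX : f (ptv hF (u + v) hX) = ptv hF (u + v) hX := by
    rw [← hxe]; exact hf.fix_third hcls (ptv_mem hF hu hu0) (by rw [hfu, hve]; exact hnc)
  have fixed_of_orth : ∀ {a : 𝕍} (ha : (𝓗).h a a = 0), a ≠ 0 → ∀ {b : 𝕍} (hb : (𝓗).h b b = 0),
      f (ptv hF a ha) = ptv hF b hb → (𝓗).h b a = 0 → f (ptv hF a ha) = ptv hF a ha := by
    intro a ha ha0 b hb he h
    refine (hfree _ (ptv_mem hF ha ha0)).resolve_right fun h' => h' ?_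
    rw [he]
    exact commute_ptv hF ha hb h
  -- everything orthogonal to `u` and `v` is fixed
  have hK : ∀ (w : 𝕍) (hw : (𝓗).h w w = 0), w ≠ 0 → (𝓗).h w u = 0 → (𝓗).h w v = 0 →
      f (ptv hF w hw) = ptv hF w hw := by
    intro w hw hw0 hwu hwv
    by_contra hwmov
    obtain ⟨w₀, hw₀, hw₀0, hw₀e⟩ := hf.mem _ (ptv_mem hF hw hw0)
    have hwnc := (hfree _ (ptv_mem hF hw hw0)).resolve_left hwmov
    rw [← hw₀e] at hwnc
    obtain ⟨w', hw', hw'0, hww', hw'e⟩ := exists_scaled hF hw₀ hw₀0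
      (fun h => hwnc (commute_ptv hF hw hw₀ ((𝓗).h_comm_zero h)))
    have hfw : f (ptv hF w hw) = ptv hF w' hw' := by rw [hw'e, hw₀e]
    have hfw' : f (ptv hF w' hw') = ptv hF w hw := by rw [← hfw, hf.invol _ (ptv_mem hF hw hw0)]
    have hw'w := (𝓗).h_comm_one hww'
    have hw'u : (𝓗).h w' u = 0 := by
      have h := hf.commute hcls (ptv_mem hF hv hv0) (ptv_mem hF hw hw0) (commute_ptv hF hv hw hwv)
      rw [hfv, hfw] at h
      exact orth_of_commute_ptv hF hu hw' hw'0 h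
    have hw'v : (𝓗).h w' v = 0 := by
      have h := hf.commute hcls (ptv_mem hF hu hu0) (ptv_mem hF hw hw0) (commute_ptv hF hu hw hwu)
      rw [hfu, hfw] at h
      exact orth_of_commute_ptv hF hv hw' hw'0 h
    have huw := (𝓗).h_comm_zero hwu
    have hvw := (𝓗).h_comm_zero hwv
    have huw' := (𝓗).h_comm_zero hw'u
    have hvw' := (𝓗).h_comm_zero hw'v
    have hY : (𝓗).h (w + w') (w + w') = 0 := by
      rw [(𝓗).add_left, (𝓗).add_right, (𝓗).add_right, hw, hw', hww', hw'w]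
      linear_combination two_eq_zero hF
    have hYw : (𝓗).h (w + w') w = 1 := by rw [(𝓗).add_left, hw, hw'w, zero_add]
    have hY0 : w + w' ≠ 0 := fun h => by rw [h, (𝓗).zero_left] at hYw; exact zero_ne_one hYw
    have hfY : f (ptv hF (w + w') hY) = ptv hF (w + w') hY := by
      rw [← ptv_third hF hw hw' hw'w hY, ← hfw]
      exact hf.fix_third hcls (ptv_mem hF hw hw0) (by rw [hfw, hw'e]; exact hwnc)
    have hfX' : ∀ h', f (ptv hF (u + v) h') = ptv hF (u + v) h' := fun _ => hfX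
    have hfY' : ∀ h', f (ptv hF (w + w') h') = ptv hF (w + w') h' := fun _ => hfY
    set X := u + v with hXdef
    set Y := w + w' with hYdef
    have hXY : (𝓗).h X Y = 0 := by
      simp [-stdHerm_h, hXdef, hYdef, (𝓗).add_left, (𝓗).add_right, huw, huw', hvw, hvw']
    clear_value X Y
    have hindXY : ∀ c : F, c • Y ≠ X := fun c hc => by
      have h1 : (𝓗).h (c • Y) u = 1 := by rw [hc]; exact hXu
      rw [(𝓗).smul_left, hYdef, (𝓗).add_left, hwu, hw'u, add_zero, mul_zero] at h1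
      exact zero_ne_one h1
    have hr : (𝓗).h (X + Y) (X + Y) = 0 := by
      rw [(𝓗).add_left, (𝓗).add_right, (𝓗).add_right, hX, hY, hXY, (𝓗).h_comm_zero hXY]; simp [-stdHerm_h]
    have hru : (𝓗).h (X + Y) u = 1 := by
      rw [(𝓗).add_left, hXu, hYdef, (𝓗).add_left, hwu, hw'u]; simp [-stdHerm_h]
    have hr0 : X + Y ≠ 0 := fun h => by rw [h, (𝓗).zero_left] at hru; exact zero_ne_one hru
    obtain ⟨r', hr', hr'0, hr'e⟩ := hf.mem _ (ptv_mem hF hr hr0)
    have hrfix : f (ptv hF (X + Y) hr) = ptv hF (X + Y) hr := by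
      refine fixed_of_orth hr hr0 hr' hr'e.symm ?_
      obtain ⟨α, β, hab⟩ := exists_comb_line hF hY0 hindXY (z := r') (fun k hk0 hk hkX hkY => by
        obtain ⟨k', hk', hk'0, hk'e⟩ := hf.mem _ (ptv_mem hF hk hk0)
        have hfk' : f (ptv hF k' hk') = ptv hF k hk := by rw [hk'e, hf.invol _ (ptv_mem hF hk hk0)]
        have hk'X : (𝓗).h k' X = 0 := by
          have h := hf.commute hcls (ptv_mem hF hX hX0) (ptv_mem hF hk hk0) (commute_ptv hF hX hk hkX)
          rw [hfX', ← hk'e] at h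
          exact orth_of_commute_ptv hF hX hk' hk'0 h
        have hk'Y : (𝓗).h k' Y = 0 := by
          have h := hf.commute hcls (ptv_mem hF hY hY0) (ptv_mem hF hk hk0) (commute_ptv hF hY hk hkY)
          rw [hfY', ← hk'e] at h
          exact orth_of_commute_ptv hF hY hk' hk'0 h
        have h := hf.commute hcls (ptv_mem hF hk' hk'0) (ptv_mem hF hr hr0)
          (commute_ptv hF hk' hr ((𝓗).h_comm_zero (by rw [(𝓗).add_right, hk'X, hk'Y, add_zero])))
        rw [hfk', ← hr'e] at h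
        exact orth_of_commute_ptv hF hk hr' hr'0 h)
      rw [hab, (𝓗).add_left, (𝓗).smul_left, (𝓗).smul_left, (𝓗).add_right, (𝓗).add_right, hX, hY,
        hXY, (𝓗).h_comm_zero hXY]
      simp [-stdHerm_h]
    have hU : (𝓗).h (u + w) (u + w) = 0 := by
      rw [(𝓗).add_left, (𝓗).add_right, (𝓗).add_right, hu, hw, huw, hwu]; simp [-stdHerm_h]
    have hUv : (𝓗).h (u + w) v = 1 := by rw [(𝓗).add_left, huv, hwv, add_zero]
    have hU0 : u + w ≠ 0 := fun h => by rw [h, (𝓗).zero_left] at hUv; exact zero_ne_one hUv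
    have hUu : (𝓗).h (u + w) u = 0 := by rw [(𝓗).add_left, hu, hwu, add_zero]
    obtain ⟨z, hz, hz0, hze⟩ := hf.mem _ (ptv_mem hF hU hU0)
    have hindvw : ∀ c : F, c • w' ≠ v := fun c hc => by
      have h1 : (𝓗).h (c • w') u = 1 := by rw [hc]; exact hvu
      rw [(𝓗).smul_left, hw'u, mul_zero] at h1
      exact zero_ne_one h1
    obtain ⟨α, β, hab⟩ := exists_comb_line hF hw'0 hindvw (z := z) (fun k hk0 hk hkv hkw' => by
      obtain ⟨k', hk', hk'0, hk'e⟩ := hf.mem _ (ptv_mem hF hk hk0)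
      have hfk' : f (ptv hF k' hk') = ptv hF k hk := by rw [hk'e, hf.invol _ (ptv_mem hF hk hk0)]
      have hk'u : (𝓗).h k' u = 0 := by
        have h := hf.commute hcls (ptv_mem hF hv hv0) (ptv_mem hF hk hk0) (commute_ptv hF hv hk hkv)
        rw [hfv, ← hk'e] at h
        exact orth_of_commute_ptv hF hu hk' hk'0 h
      have hk'w : (𝓗).h k' w = 0 := by
        have h := hf.commute hcls (ptv_mem hF hw' hw'0) (ptv_mem hF hk hk0)
          (commute_ptv hF hw' hk hkw')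
        rw [hfw', ← hk'e] at h
        exact orth_of_commute_ptv hF hw hk' hk'0 h
      have h := hf.commute hcls (ptv_mem hF hk' hk'0) (ptv_mem hF hU hU0)
        (commute_ptv hF hk' hU ((𝓗).h_comm_zero (by rw [(𝓗).add_right, hk'u, hk'w, add_zero])))
      rw [hfk', ← hze] at h
      exact orth_of_commute_ptv hF hk hz hz0 h)
    have hzr : (𝓗).h z (X + Y) = 0 := by
      have hUr : (𝓗).h (u + w) (X + Y) = 0 := by
        simp [-stdHerm_h, hXdef, hYdef, (𝓗).add_left, (𝓗).add_right, hu, huv, hw, hww', huw, huw', hwu, hwv,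
          add_self_zero hF]
      have h := hf.commute hcls (ptv_mem hF hr hr0) (ptv_mem hF hU hU0) (commute_ptv hF hr hU hUr)
      rw [hrfix, ← hze] at h
      exact orth_of_commute_ptv hF hr hz hz0 h
    have hUz : (𝓗).h z (u + w) = 0 := by
      rw [hab] at hzr ⊢
      simp [-stdHerm_h, hXdef, hYdef, (𝓗).add_left, (𝓗).add_right, (𝓗).smul_left, hv, hvu, hw', hw'w, hvw,
        hvw', hw'u, hw'v] at hzr ⊢
      exact hzr
    have hUfix := fixed_of_orth hU hU0 hz hze.symm hUz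
    have h := hf.commute hcls (ptv_mem hF hu hu0) (ptv_mem hF hU hU0) (commute_ptv hF hu hU hUu)
    rw [hfu, hUfix] at h
    exact one_ne_zero (hUv.symm.trans (orth_of_commute_ptv hF hv hU hU0 h))
  rw [hxe]
  rintro _ ⟨⟨z, hz, hz0, rfl⟩, hzne, hzc⟩
  have hzX := orth_of_commute_ptv hF hX hz hz0 hzc
  have decomp : ∀ (y : 𝕍), (𝓗).h y y = 0 → (𝓗).h y (u + v) = 0 →
      ∃ (a : F) (k : 𝕍), (𝓗).h k k = 0 ∧ (𝓗).h k u = 0 ∧ (𝓗).h k v = 0 ∧ y = a • (u + v) + k := by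
    intro y hy hyX
    set a := (𝓗).h y u with ha
    have hyv : (𝓗).h y v = a := by
      rw [(𝓗).add_right] at hyX
      linear_combination hyX - a * two_eq_zero hF
    set k := y + a • (u + v) with hk
    have e : y = a • (u + v) + k := by
      rw [hk, add_left_comm, smul_add_self_zero hF, add_zero]
    refine ⟨a, k, ?_, ?_, ?_, e⟩
    · rw [hk, (𝓗).add_left, (𝓗).add_right, (𝓗).add_right, (𝓗).smul_left, (𝓗).smul_left,
        (𝓗).smul_right, (𝓗).smul_right, hy, hX, hyX, (𝓗).h_comm_zero hyX]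
      simp [-stdHerm_h]
    · rw [hk, (𝓗).add_left, (𝓗).smul_left, hXu, mul_one, ← ha, add_self_zero hF]
    · rw [hk, (𝓗).add_left, (𝓗).smul_left, hXv, mul_one, hyv, add_self_zero hF]
  obtain ⟨a, k, hk, hku, hkv, hzk⟩ := decomp z hz hzX
  by_cases hk0 : k = 0
  · have ha : a ≠ 0 := fun h => hz0 (by rw [hzk, hk0, h, zero_smul, add_zero])
    exact absurd (congrArg (proj hF) (Subtype.ext (tv_smul hF ha hX hz (by rw [hzk, hk0, add_zero])))) hzne
  obtain ⟨z', hz', hz'0, hz'e⟩ := hf.mem _ (ptv_mem hF hz hz0)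
  refine fixed_of_orth hz hz0 hz' hz'e.symm ?_
  have hz'X : (𝓗).h z' (u + v) = 0 := by
    have h := hf.commute hcls (ptv_mem hF hX hX0) (ptv_mem hF hz hz0) hzc
    rw [hfX, ← hz'e] at h
    exact orth_of_commute_ptv hF hX hz' hz'0 h
  have hzk0 : (𝓗).h z k = 0 := by
    rw [hzk, (𝓗).add_left, (𝓗).smul_left, (𝓗).add_left, (𝓗).h_comm_zero hku,
      (𝓗).h_comm_zero hkv, hk]; simp [-stdHerm_h]
  have hz'k : (𝓗).h z' k = 0 := by
    have h := hf.commute hcls (ptv_mem hF hk hk0) (ptv_mem hF hz hz0) (commute_ptv hF hk hz hzk0)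
    rw [hK k hk hk0 hku hkv, ← hz'e] at h
    exact orth_of_commute_ptv hF hk hz' hz'0 h
  rw [hzk, (𝓗).add_right, (𝓗).smul_right, hz'X, hz'k, mul_zero, add_zero]

end CfsgLib.FischerType.U6
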