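import Cfsg.Agent.Lib.FischerType.SymStep
import Cfsg.Agent.Lib.FischerType.SymBase
import Cfsg.Agent.Lib.FischerType.M22

set_option autoImplicit false

/-! In types M(22), M(23), M(24) the class is the only class of 3-transpositions. -/

namespace CfsgLib.FischerType

open Subgroup
open CfsgLib.ThreeTrans (link commute_conj_iff' conj_self_of_commute conj_conj_eq mul_self inv_eq)
open CfsgLib.ThreeTransp (SameComm SameLink)

variable {G : Type*} [Group G] [Finite G] {D : Set G}

omit [Finite G] in
theorem pCore_link_le_of_quot {p : ℕ} [Fact p.Prime] [Finite G] {d : G}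
    (h : Cfsg.pCore p (Quot D d) = ⊥) :
    Cfsg.pCore p ↥(closure (link D d)) ≤ center ↥(closure (link D d)) := by
  intro x hx
  have hle : (Cfsg.pCore p ↥(closure (link D d))).map
      (QuotientGroup.mk' (center ↥(closure (link D d)))) ≤ Cfsg.pCore p (Quot D d) :=
    CfsgLib.ThreeTransp.le_pCore
      (Subgroup.Normal.map inferInstance _ (QuotientGroup.mk'_surjective _))
      ((CfsgLib.LargeXS.pCore_isPGroup p _).map _)
  have h1 := hle ⟨x, hx, rfl⟩
  rw [h, mem_bot] at h1
  exact (QuotientGroup.eq_one_iff _).1 h1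

theorem exists_conj_ne {D : Set G} (hc : Cfsg.IsThreeTranspositionClass D) {x : G}
    (hx : x ∉ center G) : ∃ u ∈ D, x * u * x⁻¹ ≠ u := by
  by_contra! hall
  refine hx (mem_center_iff.2 fun y => ?_)
  have hle : closure D ≤ centralizer {x} := (closure_le _).2 fun u hu =>
    mem_centralizer_singleton_iff.2 (mul_inv_eq_iff_eq_mul.1 (hall u hu)).symm
  exact mem_centralizer_singleton_iff.1 (hle (hc.2.2 ▸ mem_top y))

/-- A class around a simple link quotient lives in a group with trivial `O_2` and `O_3`. -/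
theorem pCore_eq_bot_of_link_simple (hc : Cfsg.IsThreeTranspositionClass D) (hZ : center G = ⊥)
    {d : G} (hd : d ∈ D) (hs : IsSimpleGroup (Quot D d)) :
    Cfsg.pCore 2 G = ⊥ ∧ Cfsg.pCore 3 G = ⊥ := by
  obtain ⟨hset, hconj, -⟩ := CfsgLib.ThreeTransp.class_to_group hc
  haveI : Fact (Nat.Prime 2) := ⟨Nat.prime_two⟩
  haveI : Fact (Nat.Prime 3) := ⟨Nat.prime_three⟩
  have hpair : ∀ {p : ℕ} {x : G}, x ∈ Cfsg.pCore p G → x ∉ center G →
      ∃ u ∈ D, ∃ v ∈ D, v ≠ u ∧ u * v ∈ Cfsg.pCore p G := by
    intro p x hx hxc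
    obtain ⟨u, hu, hne⟩ := exists_conj_ne hc hxc
    refine ⟨u, hu, x * u * x⁻¹, hconj x u hu, hne, ?_⟩
    have e : u * (x * u * x⁻¹) = (u * x * u⁻¹) * x⁻¹ := by rw [inv_eq hset hu]; group
    rw [e]
    exact mul_mem ((inferInstance : (Cfsg.pCore p G).Normal).conj_mem x hx u) (inv_mem hx)
  refine ⟨(eq_bot_iff).2 fun x hx => ?_, (eq_bot_iff).2 fun x hx => ?_⟩
  · rw [← hZ]
    by_contra hxc
    obtain ⟨u, hu, v, hv, hne, hm⟩ := hpair hx hxc
    exact hne (eq_of_sameComm_of_simple hc hd hs u hu v hv
      (CfsgLib.ThreeTransp.sameComm_of_mul_mem hset hu hv hm)).symm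
  · rw [← hZ]
    by_contra hxc
    obtain ⟨u, hu, v, hv, hne, hm⟩ := hpair hx hxc
    obtain ⟨a, ha, b, hb, hab⟩ := pair_of_nontrivial (D := D) (d := d) hs.toNontrivial
    obtain ⟨g, hg⟩ := CfsgLib.ThreeTransp.class_conj hc hu ha.1
    set a' := g * v * g⁻¹ with ha'def
    have hm' : a * a' ∈ Cfsg.pCore 3 G := by
      have h := (inferInstance : (Cfsg.pCore 3 G).Normal).conj_mem _ hm g
      have e : g * (u * v) * g⁻¹ = a * a' := by rw [← hg, ha'def]; group
      rwa [e] at h
    have hne' : a' ≠ a := fun h => hne (mul_left_cancel (mul_right_cancel (h.trans hg.symm)))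
    have hsl := CfsgLib.ThreeTransp.sameLink_of_mul_mem hset ha.1 (hconj g v hv) hm'
    have hnc := hsl.not_commute (hconj g v hv) hne'
    have hd' := (hsl d hd).1 ⟨ha.2.1.symm, ha.2.2.symm⟩
    have ha'l : a' ∈ link D d := ⟨hconj g v hv, hd'.1.symm, hd'.2.symm⟩
    set K := closure (link D d) with hK
    have hbot : Cfsg.pCore 3 (Quot D d) = ⊥ :=
      pCore_eq_bot_of_simple 3 hs (a := toImg D d ha) (b := toImg D d hb)
        fun h => hab (commute_of_toImg hset ha hb h)
    set z : ↥K := ⟨a, subset_closure ha⟩ * ⟨a', subset_closure ha'l⟩ with hz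
    have hzK : z ∈ Cfsg.pCore 3 ↥K :=
      CfsgLib.ThreeTransp.le_pCore (N := (Cfsg.pCore 3 G).subgroupOf K) inferInstance
        ((CfsgLib.LargeXS.pCore_isPGroup 3 G).comap_of_injective _ K.subtype_injective) hm'
    have h1 : a * (a * a') = a * a' * a :=
      congrArg Subtype.val (mem_center_iff.1 (pCore_link_le_of_quot hbot hzK) ⟨a, subset_closure ha⟩)
    refine hnc ?_
    have h2 : a' = a * a' * a := by
      rw [← h1, ← mul_assoc, mul_self hset ha.1, one_mul]
    exact (conj_eq_self_iff hset ha.1).1 h2.symm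

theorem edge_of_img {d : G} {q r : Quot D d} (hset : Cfsg.IsThreeTranspositionSet D)
    (hq : q ∈ img D d) (hr : r ∈ img D d) (hne : q ≠ r) (hcom : Commute q r) :
    ∃ u ∈ link D d, ∃ v ∈ link D d, u ≠ v ∧ Commute u v := by
  obtain ⟨u, hu, rfl⟩ := exists_toImg hq
  obtain ⟨v, hv, rfl⟩ := exists_toImg hr
  exact ⟨u, hu, v, hv, fun h => hne (by subst h; rfl), commute_of_toImg hset hu hv hcom⟩

/-- The transvection model. -/
theorem good_of_model {A : Type*} [Group A] [Finite A] {E : Set A} (S : Setting E) {F : Type}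
    [Field F] [Fintype F] (hF : Fintype.card F = 2 ^ 2) (e : A ≃* Cfsg.PSU 6 F 2) : Good E := by
  have hE : e '' E = U6.tvSet hF (n := 6) := U6.eq_tv_class hF (class_image e S.cls)
  have hcls : Cfsg.IsThreeTranspositionClass (U6.tvSet hF (n := 6)) := hE ▸ class_image e S.cls
  have hmem : ∀ {x}, x ∈ E → e x ∈ U6.tvSet hF (n := 6) := fun hx => hE ▸ ⟨_, hx, rfl⟩
  have hmem' : ∀ {y}, y ∈ U6.tvSet hF (n := 6) → e.symm y ∈ E := by
    intro y hy
    rw [← hE] at hy
    obtain ⟨x, hx, rfl⟩ := hy
    simpa using hx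
  have hl : HasLines E := by
    intro c hc d hd hcd y hy hall
    rcases U6.tvSet_hasLines hF (e c) (hmem hc) (e d) (hmem hd)
        (fun h => hcd ((commute_map_iff e.injective).1 h)) (e y) (hmem hy) (by
          rintro t ⟨⟨ht, h1, h2⟩, -, h3, h4⟩
          have := hall (e.symm t)
            ⟨⟨hmem' ht, fun h => h1 (by rw [← h]; simp),
              by simpa using h2.map e.symm⟩,
             hmem' ht, fun h => h3 (by rw [← h]; simp), by simpa using h4.map e.symm⟩
          simpa using this.map e) with h | h | h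
    · exact Or.inl (e.injective h)
    · exact Or.inr (Or.inl (e.injective h))
    · exact Or.inr (Or.inr (e.injective (by simpa using h)))
  have hsym : ∀ {f : A → A}, Sym E f →
      Sym (U6.tvSet hF (n := 6)) (fun y => e (f (e.symm y))) := by
    intro f hf
    refine ⟨fun a ha => hmem (hf.mem _ (hmem' ha)), fun a ha => ?_, fun a ha b hb => ?_⟩
    · simp [hf.invol _ (hmem' ha)]
    · simp only [map_mul]
      rw [hf.conj _ (hmem' ha) _ (hmem' hb), map_mul, map_mul]
  refine ⟨hl, ?_, ?_⟩
  · intro f hf d hd hmov hcom hfix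
    refine U6.tvSet_noSwap hF hcls _ (hsym hf) (e d) (hmem hd) (fun h => hmov ?_) ?_ ?_
    · exact e.injective (by simpa using h)
    · simpa using hcom.map e
    · rintro t ⟨⟨ht, h1, h2⟩, -, h3, h4⟩
      simp only [MulEquiv.symm_apply_apply] at h3 h4
      have := hfix (e.symm t) ⟨⟨hmem' ht, fun h => h1 (by rw [← h]; simp),
        by simpa using h2.map e.symm⟩, hmem' ht, fun h => h3 (by rw [← h]; simp),
        by simpa using h4.map e.symm⟩
      simp [this]
  · intro f hf hfree p hp hmov
    have hfree' : Free (U6.tvSet hF (n := 6)) (fun y => e (f (e.symm y))) := by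
      intro a ha
      rcases hfree _ (hmem' ha) with h | h
      · exact Or.inl (by simp [h])
      · exact Or.inr fun h' => h (by simpa using h'.map e.symm)
    have hnc := (hfree p hp).resolve_left hmov
    set x := p * f p * p with hx
    have hxE : x ∈ E := conj_mem S.cls hp (hf.mem p hp)
    have hfx : f x = x := hf.fix_third S.cls hp hnc
    have hfixl : ∀ t ∈ link E x, f t = t := by
      rintro t ⟨ht, htx, hxt⟩
      have := U6.tvSet_fix_link hF hcls (hsym hf) hfree' (hmem hp)
        (fun h => hmov (e.injective (by simpa using h))) (e t)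
        ⟨hmem ht, fun h => htx (e.injective (by simpa [hx] using h)), by simpa [hx] using hxt.map e⟩
      exact e.injective (by simpa using this)
    clear_value x
    have x2 := mul_self S.cls.1 hxE
    have hxp : x * p * x = f p := exists_conj_self S.cls.1 hp (hf.mem p hp) hnc hx
    have hfixh : ∀ t ∈ link E x, x * f t * x = t := fun t ht => by
      rw [hfixl t ht, (conj_eq_self_iff S.cls.1 hxE).2 ht.2.2]
    have hsq : ∀ z, x * (x * z * x) * x = z := fun z => by
      rw [← mul_assoc, ← mul_assoc, x2, one_mul, mul_assoc, x2, mul_one]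
    have hxpc : ¬ Commute x p := fun h => hmov (by rw [← hxp, (conj_eq_self_iff S.cls.1 hxE).2 h])
    have hhp : x * f p * x = p := by rw [← hxp, hsq]
    obtain ⟨w, hw⟩ : (link E x).Nonempty := by
      obtain ⟨b, c, p', q, r, hline⟩ := U6.exists_fiveLine hF
      obtain ⟨g, hg⟩ := CfsgLib.ThreeTransp.class_conj S.cls (hmem' hline.mem.1) hxE
      exact ⟨_, hg ▸ link_conj_mem S.cls g (show e.symm c ∈ link E (e.symm b) from
        ⟨hmem' hline.mem.2.1, fun h => hline.ne.1 (e.symm.injective h).symm,
          hline.comm.1.map e.symm⟩)⟩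
    intro y hy
    rcases S.extend hl (hf.mul_fixed S.cls hxE hfx) hxE hw
        (by rw [hfx, (conj_eq_self_iff S.cls.1 hxE).2 (Commute.refl x)]) hfixh with h | h
    · calc f y = x * (x * f y * x) * x := (hsq _).symm
        _ = x * y * x := by rw [h y hy]
    · exfalso
      have := h p hp hxpc
      rw [hhp] at this
      exact hxpc ((conj_eq_self_iff S.cls.1 hxE).1 this.symm)

/-- The data needed below type M(22): a link with simple image and the properties. -/
theorem Setting.good_of_typeM22 (S : Setting D) (h : Cfsg.IsOfTypeM22 G D) : Good D := by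
  obtain ⟨-, d, hd, c, hc, hdc, ⟨F, i1, i2, hF, ⟨e⟩⟩, c₃, hc₃, hproj⟩ := h
  have hF' : Fintype.card F = 2 ^ 2 := hF.trans (by norm_num)
  have hs : IsSimpleGroup (Quot D d) := isSimpleGroup_of_psu hF e
  have hpair := pair_of_nontrivial (D := D) (d := d) hs.toNontrivial
  obtain ⟨u, hu, v, hv, huv⟩ := hpair
  have hnc : ¬ Commute (toImg D d hu) (toImg D d hv) := fun h =>
    huv (commute_of_toImg S.cls.1 hu hv h)
  haveI : Fact (Nat.Prime 2) := ⟨Nat.prime_two⟩
  haveI : Fact (Nat.Prime 3) := ⟨Nat.prime_three⟩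
  have hZ : center (Quot D d) = ⊥ :=
    (IsSimpleGroup.eq_bot_or_eq_top_of_normal _ inferInstance).resolve_right fun htop => hnc
      (mem_center_iff.1 (htop ▸ mem_top (toImg D d hv) : toImg D d hv ∈ center _) (toImg D d hu))
  have hns0 := not_solvable_of_isProj (by norm_num) hc₃ hproj
  have SX := S.quotSetting hd hc hdc ⟨u, hu, v, hv, huv⟩ hns0
    (pCore_link_le_of_quot (pCore_eq_bot_of_simple 2 hs hnc))
    (pCore_link_le_of_quot (pCore_eq_bot_of_simple 3 hs hnc)) hZ
  obtain ⟨b₀, c₀, hb₀, hc₀, hcb₀, -⟩ := S.exists_tripleData hd ⟨u, hu, v, hv, huv⟩ hF e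
  exact S.good_step hd ⟨u, hu, v, hv, huv⟩ ⟨b₀, hb₀, c₀, hc₀, hcb₀.2.1.symm, hcb₀.2.2⟩
    (fun x hx y hy hxy => S.not_solvable_all hd hc hdc ⟨u, hu, trivial⟩ hns0 hx hy hxy)
    (good_of_model SX hF' e)

theorem img_edge_of_typeM22 {d : G} (hset : Cfsg.IsThreeTranspositionSet D)
    (h : Cfsg.IsOfTypeM22 (Quot D d) (img D d)) :
    ∃ u ∈ link D d, ∃ v ∈ link D d, u ≠ v ∧ Commute u v := by
  obtain ⟨d', hd', hs⟩ := exists_simple_of_typeM22 h
  obtain ⟨a, ha, -⟩ := pair_of_nontrivial (D := img D d) (d := d') hs.toNontrivial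
  exact edge_of_img hset hd' ha.1 ha.2.1.symm ha.2.2

/-- Type M(23). -/
theorem Setting.good_of_typeM23 (S : Setting D) (h : Cfsg.IsOfTypeM23 G D) : Good D := by
  obtain ⟨-, d, hd, c, hc, hdc, h22, c₃, hc₃, hproj⟩ := h
  haveI : Fact (Nat.Prime 2) := ⟨Nat.prime_two⟩
  haveI : Fact (Nat.Prime 3) := ⟨Nat.prime_three⟩
  have hpair := pair_of_typeM22_img (D := D) (d := d) h22
  have hns0 := not_solvable_of_isProj (by norm_num) hc₃ hproj
  obtain ⟨d', hd', hs⟩ := exists_simple_of_typeM22 h22
  obtain ⟨hb2, hb3⟩ := pCore_eq_bot_of_link_simple (S.imgClass hd hpair) h22.1 hd' hs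
  have SX := S.quotSetting hd hc hdc hpair hns0 (pCore_link_le_of_quot hb2)
    (pCore_link_le_of_quot hb3) h22.1
  obtain ⟨u, hu, -⟩ := hpair
  exact S.good_step hd (pair_of_typeM22_img h22) (img_edge_of_typeM22 S.cls.1 h22)
    (fun x hx y hy hxy => S.not_solvable_all hd hc hdc ⟨u, hu, trivial⟩ hns0 hx hy hxy)
    (SX.good_of_typeM22 h22)

/-- Type M(24). -/
theorem Setting.good_of_typeM24 (S : Setting D) (h : Cfsg.IsOfTypeM24 G D) {d₀ : G} (hd₀ : d₀ ∈ D)
    (h3 : Cfsg.pCore 3 ↥(closure (link D d₀)) ≤ center ↥(closure (link D d₀)))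
    (h2 : Cfsg.pCore 2 ↥(closure (link D d₀)) ≤ center ↥(closure (link D d₀))) : Good D := by
  obtain ⟨-, d, hd, c, hc, hdc, h23, N, hN, ⟨eN⟩, -⟩ := h
  have hpair := pair_of_typeM23_img (D := D) (d := d) h23
  have hns0 := not_solvable_of_typeM24_data eN
  have SX := S.quotSetting hd hc hdc hpair hns0 (pCore_link_le_center S.cls hd₀ hd h2)
    (pCore_link_le_center S.cls hd₀ hd h3) h23.1
  obtain ⟨u, hu, -⟩ := hpair
  obtain ⟨-, d', hd', -, -, -, h22', -⟩ := id h23
  obtain ⟨a, ha, -⟩ := pair_of_typeM22_img (D := img D d) (d := d') h22'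
  exact S.good_step hd (pair_of_typeM23_img h23) (edge_of_img S.cls.1 hd' ha.1 ha.2.1.symm ha.2.2)
    (fun x hx y hy hxy => S.not_solvable_all hd hc hdc ⟨u, hu, trivial⟩ hns0 hx hy hxy)
    (SX.good_of_typeM23 h23)

theorem pair_unique_of (hset : Cfsg.IsThreeTranspositionSet D)
    (hsame : ∀ u ∈ D, ∀ v ∈ D, SameComm D u v → u = v) {a b c e : G} (ha : a ∈ D) (hb : b ∈ D)
    (hc : c ∈ D) (he : e ∈ D) (hab : a ≠ b) (hce : c ≠ e) (cab : Commute a b) (cce : Commute c e)
    (h : a * b = c * e) : c = a ∨ c = b := by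
  by_contra! hne
  obtain ⟨h1, h3⟩ := hne
  have h4 : e ≠ b := fun h4 => h1 (by subst h4; exact (mul_right_cancel h).symm)
  have h2 : e ≠ a := fun h2 => h3 (by subst h2; exact (mul_left_cancel (h.trans cce.eq)).symm)
  obtain ⟨hca, hcb⟩ := commute_factor_two hset ha hb hc hab cce h
  obtain ⟨hea, heb⟩ := commute_factor_two hset ha hb he hab cce.symm (h.trans cce.eq)
  have hone : a * b * c * e = 1 := by
    rw [mul_assoc, ← h, ← mul_assoc (a * b) a b, mul_assoc a b a, ← cab.eq, ← mul_assoc a a b,
      mul_self hset ha, one_mul, mul_self hset hb]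
  have hone' : b * a * c * e = 1 := by rw [← cab.eq]; exact hone
  refine hab (hsame a ha b hb fun x hx => ⟨fun hc' => ?_, fun hc' => ?_⟩)
  · exact (commute_of_commute_mul_four hset hb ha hc he hx h1.symm h2.symm hce hca.symm hea.symm cce
      (by rw [hone']; exact Commute.one_right x) hc'.symm).1.symm
  · exact (commute_of_commute_mul_four hset ha hb hc he hx h3.symm h4.symm hce hcb.symm heb.symm cce
      (by rw [hone]; exact Commute.one_right x) hc'.symm).1.symm

/-- In a setting with the three properties there is no other class of 3-transpositions. -/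
theorem Setting.eq_class (S : Setting D) (hgood : Good D) {D' : Set G}
    (hD' : Cfsg.IsThreeTranspositionClass D') : D' = D := by
  obtain ⟨hset, hconj, hgen⟩ := CfsgLib.ThreeTransp.class_to_group S.cls
  obtain ⟨hset', hconj', -⟩ := CfsgLib.ThreeTransp.class_to_group hD'
  have hsame' : ∀ u ∈ D', ∀ v ∈ D', SameComm D' u v → u = v := by
    intro u hu v hv h
    have h1 := CfsgLib.ThreeTransp.pCore_two_le_center S.cls S.prim
      (CfsgLib.ThreeTransp.mul_mem_of_sameComm hset' hconj' hu hv h)
    rw [S.center_bot, mem_bot] at h1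
    exact (eq_inv_of_mul_eq_one_left h1).trans (inv_eq hset' hv)
  obtain ⟨e, he, hD'e⟩ := hD'.2.1
  have e2 := mul_self hset' he
  have hei := inv_eq hset' he
  let f : G → G := fun y => e * y * e
  have hf : Sym D f := by
    refine ⟨fun a ha => ?_, fun a _ => ?_, fun a _ b _ => ?_⟩
    · have := hconj e a ha; rwa [hei] at this
    · show e * (e * a * e) * e = a
      rw [← mul_assoc, ← mul_assoc, e2, one_mul, mul_assoc, e2, mul_one]
    · show e * (a * b * a) * e = e * a * e * (e * b * e) * (e * a * e)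
      calc e * (a * b * a) * e = e * a * 1 * b * 1 * a * e := by simp only [mul_one, mul_assoc]
        _ = e * a * (e * e) * b * (e * e) * a * e := by rw [e2]
        _ = _ := by simp only [mul_assoc]
  have hfree : Free D f := by
    intro d hd
    by_contra hcon
    push Not at hcon
    obtain ⟨hmov, hcom⟩ := hcon
    refine hgood.noSwap f hf d hd hmov hcom fun t ht => ?_
    have hd' : f d ∈ D := hf.mem d hd
    have d2 := mul_self hset hd
    have d2' := mul_self hset hd'
    set e' := d * e * d with he'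
    have he'D : e' ∈ D' := by
      have := hconj' d e he; rwa [inv_eq hset hd] at this
    set w := d * (f d) with hw
    have hw' : w = (f d) * d := hcom.eq
    have hee' : e * e' = w := by rw [hw', he']; simp only [f, mul_assoc]
    have hne : e ≠ e' := fun h => hmov (by
      have h1 : w = 1 := by rw [← hee', ← h, e2]
      rw [hw] at h1
      exact ((eq_inv_of_mul_eq_one_left h1).trans (inv_eq hset hd')).symm)
    have hw2 : w * w = 1 := by
      rw [hw, hcom.symm.mul_mul_mul_comm, d2, d2', one_mul]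
    have cee' : Commute e e' := by
      have h1 : (e * e') * (e * e') = 1 := by rw [hee', hw2]
      have h2 := eq_inv_of_mul_eq_one_left h1
      rwa [mul_inv_rev, hei, inv_eq hset' he'D] at h2
    have t2 := mul_self hset ht.1.1
    have htw : Commute t w := ht.1.2.2.symm.mul_right ht.2.2.2.symm
    have hte : t * e * t ∈ D' := by
      have := hconj' t e he; rwa [inv_eq hset ht.1.1] at this
    have hte' : t * e' * t ∈ D' := by
      have := hconj' t e' he'D; rwa [inv_eq hset ht.1.1] at this
    have hprod : (t * e * t) * (t * e' * t) = w := by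
      calc t * e * t * (t * e' * t) = t * e * (t * t) * e' * t := by simp only [mul_assoc]
        _ = t * w * t := by rw [t2, mul_one, mul_assoc t e e', hee']
        _ = w := (conj_eq_self_iff hset ht.1.1).2 htw
    have inj : ∀ {x y}, t * x * t = t * y * t → x = y := fun h =>
      mul_left_cancel (mul_right_cancel h)
    have hti : t⁻¹ = t := inv_eq hset ht.1.1
    have cc : Commute (t * e * t) (t * e' * t) := by
      have h := (commute_conj_iff' t e e').2 cee'
      rwa [hti] at h
    rcases pair_unique_of hset' hsame' he he'D hte hte' hne (fun h => hne (inj h)) cee' cc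
        (hee'.trans hprod.symm) with h | h
    · show e * t * e = t
      exact (conj_eq_self_iff hset' he).2 ((conj_eq_self_iff hset ht.1.1).1 h).symm
    · exfalso
      have hy : e * t * e = w * t := by
        have h1 : e * (t * e * t) = w := by rw [h, hee']
        calc e * t * e = e * (t * e * t) * t := by simp only [mul_assoc, t2, mul_one]
          _ = w * t := by rw [h1]
      have hyD : e * t * e ∈ D := by
        have := hconj e t ht.1.1; rwa [hei] at this
      have hyt : e * t * e * t = w := by rw [hy, mul_assoc, t2, mul_one]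
      have hcyt : Commute (e * t * e) t := by
        rw [hy]; exact htw.symm.mul_left (Commute.refl t)
      have hne_yt : e * t * e ≠ t := fun h' => hmov (by
        rw [h', t2] at hyt
        rw [hw] at hyt
        exact ((eq_inv_of_mul_eq_one_left hyt.symm).trans (inv_eq hset hd')).symm)
      rcases pair_unique_of hset S.eq_of_sameComm hd hd' ht.1.1 hyD hmov.symm hne_yt.symm
          hcom hcyt.symm (hyt.symm.trans hcyt.eq) with h' | h'
      · exact ht.1.2.1 h'
      · exact ht.2.2.1 h'
  have hmoved : ∃ p ∈ D, f p ≠ p := by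
    by_contra! hall
    have hcen : e ∈ center G := by
      refine mem_center_iff.2 fun g => ?_
      have hle : closure D ≤ centralizer {e} := (closure_le _).2 fun y hy =>
        mem_centralizer_singleton_iff.2 ((conj_eq_self_iff hset' he).1 (hall y hy)).symm.eq
      exact mem_centralizer_singleton_iff.1 (hle (hgen ▸ mem_top g))
    rw [S.center_bot, mem_bot] at hcen
    exact CfsgLib.ThreeTrans.ne_one hset' he hcen
  obtain ⟨p, hp, hpmov⟩ := hmoved
  have hinner := hgood.freeInner f hf hfree p hp hpmov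
  set x := p * f p * p
  have hxD : x ∈ D := conj_mem S.cls hp (hf.mem p hp)
  have x2 := mul_self hset hxD
  have hcen : x * e ∈ center G := by
    refine mem_center_iff.2 fun g => ?_
    have hle : closure D ≤ centralizer {x * e} := by
      rw [closure_le]
      intro y hy
      refine mem_centralizer_singleton_iff.2 ?_
      have h1 : e * y * e = x * y * x := hinner y hy
      calc y * (x * e) = x * (x * y * x) * e := by
            simp only [← mul_assoc, x2, one_mul]
        _ = x * (e * y * e) * e := by rw [h1]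
        _ = x * e * y := by simp only [mul_assoc, e2, mul_one]
    exact mem_centralizer_singleton_iff.1 (hle (hgen ▸ mem_top g))
  rw [S.center_bot, mem_bot] at hcen
  have hex : e = x := by
    calc e = x * (x * e) := by rw [← mul_assoc, x2, one_mul]
      _ = x := by rw [hcen, mul_one]
  obtain ⟨d₁, -, hDd⟩ := S.cls.2.1
  rw [hD'e, hex, hDd]
  rw [hDd] at hxD
  exact Set.ext fun y => ⟨fun hy => (hxD : IsConj d₁ x).trans hy, fun hy => (hxD : IsConj d₁ x).symm.trans hy⟩

end CfsgLib.FischerType
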