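import Mathlib
import Cfsg.Agent.Lib.ThreeTransp.OrthReflection
import Cfsg.Agent.Lib.Classical.Quad.Std
import Cfsg.Agent.Lib.Classical.Herm.Std
import Cfsg.Prelude.Def_FischerSpaces

set_option autoImplicit false

/-! The groups occurring in the definitions of the types M(22), M(23), M(24) are not solvable. -/

namespace CfsgLib.FischerType

open Subgroup

theorem solvable_quot_iff {K : Type*} [Group K] :
    Group.IsSolvable (K ⧸ center K) ↔ Group.IsSolvable K := by
  refine ⟨fun h => ?_, fun h => inferInstance⟩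
  have hc : Group.IsSolvable ↥(center K) :=
    Group.isSolvable_of_comm fun a b => Subtype.ext (mem_center_iff.1 b.2 a)
  exact Group.isSolvable_of_ker_le_range (center K).subtype (QuotientGroup.mk' (center K))
    (by rw [QuotientGroup.ker_mk', range_subtype])

theorem not_solvable_of_perfect {K : Type*} [Group K] [Nontrivial K] (h : commutator K = ⊤) :
    ¬ Group.IsSolvable K := fun hs => by
  haveI := hs
  exact (Group.IsSolvable.commutator_lt_top_of_nontrivial (G := K)).ne h

theorem not_solvable_of_isProj {K : Type*} [Group K] {n : ℕ} (hn : 5 ≤ n) {μ c : ZMod 3}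
    (hc : c ≠ 0) (h : Cfsg.IsProjReflectionGroupModThree (K ⧸ center K) n μ c) :
    ¬ Group.IsSolvable K := by
  intro hs
  obtain ⟨Q, hQ, -, ⟨e⟩⟩ := h
  set R := Cfsg.reflectionSubgroup (⇑Q) c
  obtain ⟨⟨hper, hsim⟩, -⟩ := CfsgLib.OrthReflThree.structure_reflectionSubgroup hn hQ hc
  have h1 : Group.IsSolvable (K ⧸ center K) := solvable_quot_iff.2 hs
  have h2 : Group.IsSolvable (R ⧸ center R) :=
    Group.isSolvable_of_surjective (f := e.toMonoidHom) e.surjective
  have h3 : Group.IsSolvable ↥R := solvable_quot_iff.1 h2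
  haveI : Nontrivial (commutator ↥R) := by
    rw [← not_subsingleton_iff_nontrivial]
    intro hsub
    have := hsim.toNontrivial
    obtain ⟨a, b, hab⟩ := exists_pair_ne (↥(commutator ↥R) ⧸ center ↥(commutator ↥R))
    obtain ⟨a, rfl⟩ := QuotientGroup.mk_surjective a
    obtain ⟨b, rfl⟩ := QuotientGroup.mk_surjective b
    exact hab (congrArg _ (Subsingleton.elim a b))
  exact not_solvable_of_perfect hper.commutator_eq_top inferInstance

theorem not_solvable_pOmega_plus_three :
    ¬ Group.IsSolvable (Cfsg.POmega (ZMod 3) (Cfsg.quadFormPlus 4 (ZMod 3))) := by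
  haveI : Fact (Nat.Prime 3) := ⟨Nat.prime_three⟩
  intro hs
  have hnd := CfsgLib.Classical.Quad.ndPolar_hypForm
    (CfsgLib.Classical.Quad.ndPolar_zeroKernel (F := ZMod 3)) 4
  let P := CfsgLib.Classical.Quad.hypFrameThree
    (CfsgLib.Classical.Quad.zeroKernel (ZMod 3)) (m := 4) (by norm_num)
  have hsim := CfsgLib.Classical.Quad.isSimpleGroup_siegel_quot hnd P
  have hper := CfsgLib.Classical.Quad.siegelGroup_perfect hnd P
  let e := CfsgLib.Classical.Quad.pomegaEquiv (CfsgLib.Classical.Quad.plusEquiv 4 (ZMod 3))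
    (CfsgLib.Classical.Quad.plusEquiv_spec 4) hnd P
  have h2 := Group.isSolvable_of_surjective (f := e.toMonoidHom) e.surjective (G := _)
  have := hsim.toNontrivial
  refine not_solvable_of_perfect ?_ h2
  rw [commutator_def, ← Subgroup.map_top_of_surjective _ (QuotientGroup.mk'_surjective _),
    ← Subgroup.map_commutator, ← commutator_def, hper]

theorem not_solvable_of_typeM24_data {K : Type*} [Group K] {N : Subgroup (K ⧸ center K)}
    (e : N ≃* Cfsg.POmega (ZMod 3) (Cfsg.quadFormPlus 4 (ZMod 3))) : ¬ Group.IsSolvable K := by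
  intro hs
  have h1 : Group.IsSolvable (K ⧸ center K) := solvable_quot_iff.2 hs
  exact not_solvable_pOmega_plus_three
    (Group.isSolvable_of_surjective (f := e.toMonoidHom) e.surjective)

end CfsgLib.FischerType
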