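import Cfsg.Agent.Lib.FischerType.CenterQuot
import Cfsg.Agent.Lib.FischerType.NonSolvable
import Cfsg.Agent.Lib.ThreeTransp.PrimitiveStructure
import Cfsg.Agent.Lib.Solvable.Core

set_option autoImplicit false

/-! Descending from a group of type M(22), M(23) or M(24) to the group of the link of a member. -/

namespace CfsgLib.FischerType

open Subgroup
open CfsgLib.ThreeTrans (link linkClass link_conj commute_conj_iff' conj_self_of_commute
  conj_conj_eq)
open CfsgLib.ThreeTransp (SameComm)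

variable {G : Type*} [Group G] [Finite G] {D : Set G}

/-- A primitive class of 3-transpositions in a group with trivial centre. -/
structure Setting (D : Set G) : Prop where
  cls : Cfsg.IsThreeTranspositionClass D
  prim : Cfsg.IsPrimitiveUnderConj D
  center_bot : center G = ⊥

/-- Two members of the link commuting with the same members of it are equal. -/
def LinkTwinFree (D : Set G) (d : G) : Prop :=
  ∀ u ∈ link D d, ∀ v ∈ link D d, SameComm (link D d) u v → u = v

/-- Two common neighbours of `d`, `e` commuting with the same common neighbours are equal. -/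
def PairTwinFree (D : Set G) (d e : G) : Prop :=
  ∀ u ∈ link D d ∩ link D e, ∀ v ∈ link D d ∩ link D e,
    SameComm (link D d ∩ link D e) u v → u = v

omit [Finite G] in
theorem hset (S : Cfsg.IsThreeTranspositionClass D) : Cfsg.IsThreeTranspositionSet D := S.1

omit [Finite G] in
theorem link_conj_mem (hc : Cfsg.IsThreeTranspositionClass D) (g : G) {d u : G}
    (hu : u ∈ link D d) : g * u * g⁻¹ ∈ link D (g * d * g⁻¹) := by
  rw [← link_conj hc]; exact ⟨u, hu, rfl⟩

omit [Finite G] in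
theorem sameComm_link_conj (hc : Cfsg.IsThreeTranspositionClass D) (g : G) {A B : Set G}
    (hAB : ∀ e ∈ B, g⁻¹ * e * g⁻¹⁻¹ ∈ A) {u v : G} (h : SameComm A u v) :
    SameComm B (g * u * g⁻¹) (g * v * g⁻¹) := by
  intro e he
  have h1 := h _ (hAB e he)
  rw [← commute_conj_iff' g, ← commute_conj_iff' g u] at h1
  have he' : g * (g⁻¹ * e * g⁻¹⁻¹) * g⁻¹ = e := by group
  rwa [he'] at h1

omit [Finite G] in
theorem linkTwinFree_conj (hc : Cfsg.IsThreeTranspositionClass D) (g : G) {d : G}
    (h : LinkTwinFree D d) : LinkTwinFree D (g * d * g⁻¹) := by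
  intro u hu v hv huv
  have e1 : ∀ x, g * (g⁻¹ * x * g⁻¹⁻¹) * g⁻¹ = x := fun x => by group
  have e2 : g⁻¹ * (g * d * g⁻¹) * g⁻¹⁻¹ = d := by group
  have hu' := link_conj_mem hc g⁻¹ hu
  have hv' := link_conj_mem hc g⁻¹ hv
  rw [e2] at hu' hv'
  have h1 := h _ hu' _ hv' (sameComm_link_conj hc g⁻¹ (fun e he => by
    rw [inv_inv]; exact link_conj_mem hc g he) huv)
  rw [← e1 u, h1, e1]

omit [Finite G] in
theorem pairTwinFree_conj (hc : Cfsg.IsThreeTranspositionClass D) (g : G) {d e : G}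
    (h : PairTwinFree D d e) : PairTwinFree D (g * d * g⁻¹) (g * e * g⁻¹) := by
  intro u hu v hv huv
  have e1 : ∀ x, g * (g⁻¹ * x * g⁻¹⁻¹) * g⁻¹ = x := fun x => by group
  have e2 : ∀ x, g⁻¹ * (g * x * g⁻¹) * g⁻¹⁻¹ = x := fun x => by group
  have hu1 := link_conj_mem hc g⁻¹ hu.1
  have hu2 := link_conj_mem hc g⁻¹ hu.2
  have hv1 := link_conj_mem hc g⁻¹ hv.1
  have hv2 := link_conj_mem hc g⁻¹ hv.2
  rw [e2] at hu1 hu2 hv1 hv2
  have h1 := h _ ⟨hu1, hu2⟩ _ ⟨hv1, hv2⟩ (sameComm_link_conj hc g⁻¹ (fun x hx => by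
    rw [inv_inv]; exact ⟨link_conj_mem hc g hx.1, link_conj_mem hc g hx.2⟩) huv)
  rw [← e1 u, h1, e1]

namespace Setting

variable (S : Setting D)

include S

theorem eq_of_sameComm : ∀ u ∈ D, ∀ v ∈ D, SameComm D u v → u = v := by
  intro u hu v hv h
  obtain ⟨hs, hconj, -⟩ := CfsgLib.ThreeTransp.class_to_group S.cls
  have h1 := CfsgLib.ThreeTransp.pCore_two_le_center S.cls S.prim
    (CfsgLib.ThreeTransp.mul_mem_of_sameComm hs hconj hu hv h)
  rw [S.center_bot, mem_bot] at h1
  exact (eq_inv_of_mul_eq_one_left h1).trans (CfsgLib.ThreeTrans.inv_eq hs hv)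

omit [Finite G] S in
theorem edge {d u : G} (hd : d ∈ D) (hu : u ∈ link D d) :
    ∃ a ∈ D, ∃ b ∈ D, a ≠ b ∧ Commute a b :=
  ⟨d, hd, u, hu.1, hu.2.1.symm, hu.2.2⟩

theorem exists_conj_pair {a b c e : G} (ha : a ∈ D) (hb : b ∈ link D a) (hc : c ∈ D)
    (he : e ∈ link D c) : ∃ g : G, g * a * g⁻¹ = c ∧ g * b * g⁻¹ = e :=
  CfsgLib.ThreeTrans.exists_conj_pair S.cls S.prim (edge ha hb) S.eq_of_sameComm ha hb hc he

theorem exists_conj_link {d u v : G} (hd : d ∈ D) (hu : u ∈ link D d) (hv : v ∈ link D d) :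
    ∃ k ∈ closure (link D d), k * u * k⁻¹ = v :=
  CfsgLib.ThreeTrans.link_single_class S.cls S.prim (edge hd hu) S.eq_of_sameComm hd hu hv

theorem noCentral {d : G} (hd : d ∈ D)
    (hpair : ∃ u ∈ link D d, ∃ v ∈ link D d, ¬ Commute u v) : NoCentral D d := by
  intro u hu
  by_contra! hall
  obtain ⟨a, ha, b, hb, hab⟩ := hpair
  have hcen : closure (link D d) ≤ centralizer {u} :=
    (closure_le _).2 fun e he => mem_centralizer_singleton_iff.2 (hall e he).eq.symm
  have hfix : ∀ v ∈ link D d, u = v := by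
    intro v hv
    obtain ⟨k, hk, rfl⟩ := S.exists_conj_link hd hu hv
    exact (conj_self_of_commute (mem_centralizer_singleton_iff.1 (hcen hk))).symm
  exact hab (by rw [← hfix a ha, ← hfix b hb])

theorem imgClass {d : G} (hd : d ∈ D)
    (hpair : ∃ u ∈ link D d, ∃ v ∈ link D d, ¬ Commute u v) :
    Cfsg.IsThreeTranspositionClass (img D d) := by
  have hnc := S.noCentral hd hpair
  refine ⟨⟨fun q hq => ?_, fun q hq r hr => ?_⟩, ?_, closure_img⟩
  · obtain ⟨u, hu, rfl⟩ := exists_toImg hq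
    refine orderOf_eq_prime ?_ fun h1 => ?_
    · rw [← QuotientGroup.mk_pow, ← QuotientGroup.mk_one]
      refine congrArg _ (Subtype.ext ?_)
      simp [pow_two, CfsgLib.ThreeTrans.mul_self S.cls.1 hu.1]
    · obtain ⟨w, hw, hcw⟩ := hnc u hu
      exact hcw (congrArg Subtype.val
        (mem_center_iff.1 ((QuotientGroup.eq_one_iff _).1 h1) ⟨w, subset_closure hw⟩)).symm
  · obtain ⟨u, hu, rfl⟩ := exists_toImg hq
    obtain ⟨v, hv, rfl⟩ := exists_toImg hr
    rw [← QuotientGroup.mk_mul, ← QuotientGroup.mk_pow, ← QuotientGroup.mk_pow]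
    refine (S.cls.1.2 u hu.1 v hv.1).imp (fun h => ?_) fun h => ?_ <;>
    · rw [← QuotientGroup.mk_one]
      exact congrArg _ (Subtype.ext (by simpa using h))
  · obtain ⟨u, hu, -⟩ := hpair
    refine ⟨toImg D d hu, toImg_mem hu, Set.Subset.antisymm ?_ ?_⟩
    · intro q hq
      obtain ⟨v, hv, rfl⟩ := exists_toImg hq
      obtain ⟨k, hk, hkv⟩ := S.exists_conj_link hd hu hv
      refine isConj_iff.2 ⟨QuotientGroup.mk ⟨k, hk⟩, ?_⟩
      rw [← QuotientGroup.mk_mul, ← QuotientGroup.mk_inv, ← QuotientGroup.mk_mul]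
      exact congrArg _ (Subtype.ext hkv)
    · intro q hq
      obtain ⟨c, rfl⟩ := isConj_iff.1 hq
      obtain ⟨k, rfl⟩ := QuotientGroup.mk_surjective c
      refine ⟨k * ⟨u, subset_closure hu⟩ * k⁻¹, ?_, ?_⟩
      · exact CfsgLib.ThreeTrans.linkClass_subset_link S.cls hu ⟨k, k.2, rfl⟩
      · rw [QuotientGroup.mk_mul, QuotientGroup.mk_mul, QuotientGroup.mk_inv]

/-- A link without twins in the image has no twins. -/
theorem linkTwinFree_of_img {d : G} (hd : d ∈ D)
    (hpair : ∃ u ∈ link D d, ∃ v ∈ link D d, ¬ Commute u v)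
    (h : ∀ q ∈ img D d, ∀ r ∈ img D d, SameComm (img D d) q r → q = r) : LinkTwinFree D d := by
  intro u hu v hv huv
  refine eq_of_toImg S.cls.1 (S.noCentral hd hpair) hu hv (h _ (toImg_mem hu) _ (toImg_mem hv) ?_)
  intro e he
  obtain ⟨w, hw, rfl⟩ := exists_toImg he
  exact ⟨fun hc => commute_toImg hu hw ((huv w hw).1 (commute_of_toImg S.cls.1 hv hw hc)),
    fun hc => commute_toImg hv hw ((huv w hw).2 (commute_of_toImg S.cls.1 hu hw hc))⟩

/-- Twins of a pair are twins of a link in the image. -/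
theorem pairTwinFree_of_img {d e : G} (hd : d ∈ D) (he : e ∈ link D d)
    (hpair : ∃ u ∈ link D d, ∃ v ∈ link D d, ¬ Commute u v)
    (h : LinkTwinFree (img D d) (toImg D d he)) : PairTwinFree D d e := by
  intro u hu v hv huv
  have hn := S.noCentral hd hpair
  have hin : ∀ {w : G} (hw : w ∈ link D d), w ∈ link D e →
      toImg D d hw ∈ link (img D d) (toImg D d he) := fun {w} hw hwe =>
    ⟨toImg_mem hw, fun h1 => hwe.2.1 (eq_of_toImg S.cls.1 hn hw he h1),
      commute_toImg he hw hwe.2.2⟩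
  refine eq_of_toImg S.cls.1 hn hu.1 hv.1 (h _ (hin hu.1 hu.2) _ (hin hv.1 hv.2) ?_)
  rintro q ⟨hq, hne, hc⟩
  obtain ⟨w, hw, rfl⟩ := exists_toImg hq
  have hw' : w ∈ link D d ∩ link D e :=
    ⟨hw, hw.1, fun h1 => hne (by subst h1; rfl), commute_of_toImg S.cls.1 he hw hc⟩
  exact ⟨fun hc => commute_toImg hu.1 hw ((huv w hw').1 (commute_of_toImg S.cls.1 hv.1 hw hc)),
    fun hc => commute_toImg hv.1 hw ((huv w hw').2 (commute_of_toImg S.cls.1 hu.1 hw hc))⟩

theorem pairTwinFree_all {d e : G} (hd : d ∈ D) (he : e ∈ link D d) (h : PairTwinFree D d e)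
    {a b : G} (ha : a ∈ D) (hb : b ∈ link D a) : PairTwinFree D a b := by
  obtain ⟨g, rfl, rfl⟩ := S.exists_conj_pair hd he ha hb
  exact pairTwinFree_conj S.cls g h

end Setting

omit [Finite G] in
theorem pair_of_nontrivial {d : G} (h : Nontrivial (Quot D d)) :
    ∃ u ∈ link D d, ∃ v ∈ link D d, ¬ Commute u v := by
  by_contra! hall
  have hcen : closure (link D d) ≤ centralizer (link D d) :=
    (closure_le _).2 fun a ha => mem_centralizer_iff.2 fun b hb => (hall b hb a ha).eq
  have hcomm : ∀ x y : ↥(closure (link D d)), x * y = y * x := by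
    intro x y
    have hxc : closure (link D d) ≤ centralizer {(x : G)} :=
      (closure_le _).2 fun e he =>
        mem_centralizer_singleton_iff.2 (mem_centralizer_iff.1 (hcen x.2) e he)
    exact Subtype.ext (mem_centralizer_singleton_iff.1 (hxc y.2)).symm
  refine not_subsingleton_iff_nontrivial.2 h ⟨fun a b => ?_⟩
  obtain ⟨a, rfl⟩ := QuotientGroup.mk_surjective a
  obtain ⟨b, rfl⟩ := QuotientGroup.mk_surjective b
  exact QuotientGroup.eq.2 (mem_center_iff.2 fun g => hcomm g _)

/-- The link of a member with simple image and the class around it have no twins. -/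
theorem eq_of_sameComm_of_simple (hc : Cfsg.IsThreeTranspositionClass D) {d : G} (hd : d ∈ D)
    (hs : IsSimpleGroup (Quot D d)) : ∀ u ∈ D, ∀ v ∈ D, SameComm D u v → u = v := by
  intro u hu v hv huv
  by_contra hne
  haveI : Fact (Nat.Prime 2) := ⟨Nat.prime_two⟩
  obtain ⟨hset, hconj, -⟩ := CfsgLib.ThreeTransp.class_to_group hc
  obtain ⟨u', hu', w, hw, huw⟩ := pair_of_nontrivial (D := D) (d := d) hs.toNontrivial
  obtain ⟨g, hg⟩ := CfsgLib.ThreeTransp.class_conj hc hu hu'.1
  have hsc := SameComm.conj hconj huv g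
  rw [hg] at hsc
  set v' := g * v * g⁻¹ with hv'def
  have hv'D : v' ∈ D := hconj g v hv
  have hne' : u' ≠ v' := fun h => hne (mul_left_cancel (mul_right_cancel (hg.trans h)))
  have hcd : Commute v' d := (hsc d hd).2 hu'.2.2.symm
  have hvd : v' ≠ d := fun h => huw ((hsc w hw.1).1 (by rw [h]; exact hw.2.2))
  have hv' : v' ∈ link D d := ⟨hv'D, hvd, hcd.symm⟩
  have hmem := CfsgLib.ThreeTransp.mul_mem_of_sameComm hset hconj hu'.1 hv'D hsc
  set K := closure (link D d) with hK
  set x : ↥K := ⟨u', subset_closure hu'⟩ * ⟨v', subset_closure hv'⟩ with hx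
  set N := (Cfsg.pCore 2 G).subgroupOf K with hN
  have hN2 : IsPGroup 2 N :=
    (CfsgLib.LargeXS.pCore_isPGroup 2 G).comap_of_injective _ K.subtype_injective
  have hNle : N.map (QuotientGroup.mk' (center ↥K)) ≤ Cfsg.pCore 2 (Quot D d) :=
    CfsgLib.ThreeTransp.le_pCore
      (Subgroup.Normal.map inferInstance _ (QuotientGroup.mk'_surjective _)) (hN2.map _)
  have hbot : Cfsg.pCore 2 (Quot D d) = ⊥ :=
    pCore_eq_bot_of_simple 2 hs (a := toImg D d hu') (b := toImg D d hw)
      fun h => huw (commute_of_toImg hset hu' hw h)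
  have hxc : x ∈ center ↥K := by
    have h1 : (QuotientGroup.mk' (center ↥K)) x ∈ Cfsg.pCore 2 (Quot D d) :=
      hNle ⟨x, hmem, rfl⟩
    rw [hbot, mem_bot] at h1
    exact (QuotientGroup.eq_one_iff _).1 h1
  refine huw (commute_of_commute_mul_two hset hu'.1 hv'D hw.1 hne' ?_).1.symm
  exact congrArg Subtype.val (mem_center_iff.1 hxc ⟨w, subset_closure hw⟩)

omit [Finite G] in
theorem nontrivial_of_img_pair {d : G} {q r : Quot D d} (h : ¬ Commute q r) :
    Nontrivial (Quot D d) :=
  ⟨q, r, fun h' => h (h' ▸ Commute.refl _)⟩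

/-- Members of a class commuting only trivially with the rest generate a solvable group. -/
theorem solvable_of_pairwise {W : Set G} (hW : ∀ w ∈ W, orderOf w = 2)
    (hinv : ∀ w ∈ W, ∀ v ∈ W, w * v * w⁻¹ ∈ W) (h3 : ∀ w ∈ W, ∀ v ∈ W, (w * v) ^ 3 = 1) :
    Group.IsSolvable ↥(closure W) := by
  set M := closure W with hM
  set W' : Set ↥M := {u | (u : G) ∈ W} with hW'
  have hinv' : ∀ k : ↥M, ∀ u ∈ W', k * u * k⁻¹ ∈ W' := by
    rintro ⟨k, hk⟩ u hu
    show k * (u : G) * k⁻¹ ∈ W
    have key : ∀ k ∈ M, ∀ z ∈ W, k * z * k⁻¹ ∈ W := by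
      intro k hk
      induction hk using closure_induction'' with
      | mem e he => exact hinv e he
      | inv_mem e he =>
        have h := CfsgLib.ThreeTransp.inv_eq_self (hW e he)
        rw [h]; exact hinv e he
      | one => intro c hc; simpa using hc
      | mul m n _ _ ihm ihn => intro c hc; rw [← conj_conj_eq]; exact ihm _ (ihn c hc)
    exact key k hk _ hu
  set P := Cfsg.pCore 3 ↥M
  have : Fact (Nat.Prime 3) := ⟨Nat.prime_three⟩
  have hP : Group.IsSolvable ↥P := by
    have := (CfsgLib.LargeXS.pCore_isPGroup 3 ↥M).isNilpotent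
    infer_instance
  have hpair : ∀ a ∈ W', ∀ b ∈ W', a * b ∈ P := fun a ha b hb =>
    CfsgLib.ThreeTransp.mul_mem_pCore_three (D := W')
      (fun u hu => (Subgroup.orderOf_coe u).symm.trans (hW _ hu)) hinv'
      (fun u hu v hv => Subtype.ext (by simpa using h3 _ hu _ hv)) ha hb
  have hq : Group.IsSolvable (↥M ⧸ P) := by
    set π := QuotientGroup.mk' P
    have heq : ∀ a ∈ W', ∀ b ∈ W', π a = π b := by
      intro a ha b hb
      have h1 : π a * π b = 1 := by rw [← map_mul]; exact (QuotientGroup.eq_one_iff _).2 (hpair a ha b hb)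
      have h2 : π a * π a = 1 := by rw [← map_mul]; exact (QuotientGroup.eq_one_iff _).2 (hpair a ha a ha)
      exact mul_left_cancel (h2.trans h1.symm)
    have htop : closure W' = ⊤ := closure_closure_coe_preimage
    refine Group.isSolvable_of_comm fun a b => ?_
    have hcl : closure (π '' W') = ⊤ := by
      rw [← MonoidHom.map_closure, htop, map_top_of_surjective _ (QuotientGroup.mk'_surjective P)]
    have hle : closure (π '' W') ≤ centralizer (π '' W') :=
      (closure_le _).2 (by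
        rintro _ ⟨u, hu, rfl⟩
        refine mem_centralizer_iff.2 ?_
        rintro _ ⟨v, hv, rfl⟩
        rw [heq u hu v hv])
    have hb : closure (π '' W') ≤ centralizer {b} :=
      (closure_le _).2 fun q hq => mem_centralizer_singleton_iff.2
        (mem_centralizer_iff.1 (hle (hcl ▸ mem_top b)) q hq)
    exact mem_centralizer_singleton_iff.1 (hb (hcl ▸ mem_top a))
  exact (Group.isSolvable_iff_subgroup_quotient P).2 ⟨hP, hq⟩

namespace Setting

variable (S : Setting D)

include S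

/-- The group generated by the common neighbours of a non-commuting pair is insoluble for every
such pair if it is for one. -/
theorem not_solvable_all {d c : G} (hd : d ∈ D) (hc : c ∈ D) (hdc : ¬ Commute d c)
    (hedge : ∃ u ∈ link D d, True)
    (h : ¬ Group.IsSolvable ↥(closure (link D d ∩ link D c))) {x y : G} (hx : x ∈ D) (hy : y ∈ D)
    (hxy : ¬ Commute x y) : ¬ Group.IsSolvable ↥(closure (link D x ∩ link D y)) := by
  obtain ⟨u, hu, -⟩ := hedge
  obtain ⟨g, rfl⟩ := CfsgLib.ThreeTransp.class_conj S.cls hd hx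
  have hc' := CfsgLib.ThreeTransp.class_conj_mem S.cls g hc
  have hgc : ¬ Commute (g * d * g⁻¹) (g * c * g⁻¹) := fun h => hdc ((commute_conj_iff' g d c).1 h)
  obtain ⟨s, hs, rfl⟩ :=
    CfsgLib.ThreeTrans.rel_noncommuting S.cls S.prim (Setting.edge hd hu) hx hc' hy hgc hxy
  have e1 : s * (g * d * g⁻¹) * s⁻¹ = g * d * g⁻¹ := conj_self_of_commute hs
  intro hsol
  rw [← e1, conj_conj_eq, conj_conj_eq] at hsol
  set k := s * g with hk
  rw [← link_conj S.cls, ← link_conj S.cls,
    ← Set.image_inter fun a b h => mul_left_cancel (mul_right_cancel h)] at hsol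
  have hmap : closure ((fun e => k * e * k⁻¹) '' (link D d ∩ link D c)) =
      (closure (link D d ∩ link D c)).map (MulAut.conj k).toMonoidHom := by
    rw [MonoidHom.map_closure]; rfl
  rw [hmap] at hsol
  let e := (closure (link D d ∩ link D c)).equivMapOfInjective (MulAut.conj k).toMonoidHom (MulAut.conj k).injective
  exact h (Group.isSolvable_of_surjective (f := e.symm.toMonoidHom) e.symm.surjective)

/-- The image of a link is again a primitive class. -/
theorem quotSetting {d c : G} (hd : d ∈ D) (hc : c ∈ D) (hdc : ¬ Commute d c)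
    (hpair : ∃ u ∈ link D d, ∃ v ∈ link D d, ¬ Commute u v)
    (hns : ¬ Group.IsSolvable ↥(closure (link D d ∩ link D c)))
    (h2 : Cfsg.pCore 2 ↥(closure (link D d)) ≤ center ↥(closure (link D d)))
    (h3 : Cfsg.pCore 3 ↥(closure (link D d)) ≤ center ↥(closure (link D d)))
    (hZ : center (Quot D d) = ⊥) : Setting (img D d) := by
  have hcls := S.imgClass hd hpair
  obtain ⟨a, ha, b, hb, hab⟩ := hpair
  haveI : Fact (Nat.Prime 2) := ⟨Nat.prime_two⟩
  haveI : Fact (Nat.Prime 3) := ⟨Nat.prime_three⟩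
  have hq2 : Cfsg.pCore 2 (Quot D d) ≤ center _ := (pCore_quot_eq_bot 2 h2).le.trans bot_le
  have hq3 : Cfsg.pCore 3 (Quot D d) ≤ center _ := (pCore_quot_eq_bot 3 h3).le.trans bot_le
  have hD2 : ∃ q ∈ img D d, ∃ r ∈ img D d, q ≠ r :=
    ⟨_, toImg_mem ha, _, toImg_mem hb, fun h => hab (commute_of_toImg S.cls.1 ha hb (h ▸ Commute.refl _))⟩
  have hcommon : ∀ x ∈ link D d, ∀ y ∈ link D d, ¬ Commute x y →
      ∃ z ∈ link D d, Commute z x ∧ Commute z y := by
    intro x hx y hy hxy
    set W := link D x ∩ link D y with hW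
    have hdW : d ∈ W := ⟨⟨hd, hx.2.1.symm, hx.2.2.symm⟩, hd, hy.2.1.symm, hy.2.2.symm⟩
    have hiso : ∀ w ∈ W, w ≠ d → Commute d w → False ∨ ∃ z ∈ link D d, Commute z x ∧ Commute z y :=
      fun w hw hne hcw => Or.inr ⟨w, ⟨hw.1.1, hne, hcw⟩, hw.1.2.2.symm, hw.2.2.2.symm⟩
    by_contra hno
    have hd' : ∀ w ∈ W, w ≠ d → ¬ Commute d w := fun w hw hne hcw =>
      (hiso w hw hne hcw).elim id hno
    have hWconj : ∀ g : G, Commute g x → Commute g y → ∀ w ∈ W, g * w * g⁻¹ ∈ W := by
      intro g hgx hgy w hw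
      have h1 := link_conj_mem S.cls g hw.1
      have h2 := link_conj_mem S.cls g hw.2
      rw [conj_self_of_commute hgx] at h1
      rw [conj_self_of_commute hgy] at h2
      exact ⟨h1, h2⟩
    have hpair' : ∀ w ∈ W, ∀ v ∈ W, v ≠ w → ¬ Commute w v := by
      intro w hw v hv hne hcwv
      by_cases hwd : w = d
      · subst hwd; exact hd' v hv hne hcwv
      set g := w * d with hg
      have hgx : Commute g x := hw.1.2.2.symm.mul_left hdW.1.2.2.symm
      have hgy : Commute g y := hw.2.2.2.symm.mul_left hdW.2.2.2.symm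
      have hgw : g * w * g⁻¹ = d :=
        CfsgLib.ThreeTrans.conj_pair S.cls.1 hw.1.1 hd fun h => hd' w hw hwd h.symm
      have h1 := hWconj g hgx hgy v hv
      refine hd' _ h1 (fun h => hne (mul_left_cancel (mul_right_cancel (h.trans hgw.symm)))) ?_
      rw [← hgw]
      exact (commute_conj_iff' g w v).2 hcwv
    refine S.not_solvable_all hd hc hdc ⟨a, ha, trivial⟩ hns hx.1 hy.1 hxy ?_
    refine solvable_of_pairwise (fun w hw => S.cls.1.1 w hw.1.1)
      (fun w hw v hv => hWconj w hw.1.2.2.symm hw.2.2.2.symm v hv) fun w hw v hv => ?_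
    by_cases hne : v = w
    · rw [hne, CfsgLib.ThreeTrans.mul_self S.cls.1 hw.1.1, one_pow]
    · exact CfsgLib.ThreeTrans.cube_eq_one S.cls.1 hw.1.1 hv.1.1 (hpair' w hw v hv hne)
  have hconn : (Cfsg.commutingGraph (img D d)).Connected := by
    haveI : Nonempty ↥(img D d) := ⟨⟨_, toImg_mem ha⟩⟩
    refine SimpleGraph.Connected.mk fun q r => ?_
    obtain ⟨q, hq⟩ := q
    obtain ⟨r, hr⟩ := r
    have hstep : ∀ {s t : Quot D d} (hs : s ∈ img D d) (ht : t ∈ img D d), Commute s t →
        (Cfsg.commutingGraph (img D d)).Reachable ⟨s, hs⟩ ⟨t, ht⟩ := by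
      intro s t hs ht hst
      by_cases he : s = t
      · subst he; exact .refl _
      · exact SimpleGraph.Adj.reachable (CfsgLib.ThreeTransp.commutingGraph_adj.2
          ⟨fun h => he (congrArg Subtype.val h), hst⟩)
    by_cases hcqr : Commute q r
    · exact hstep hq hr hcqr
    obtain ⟨x, hx, rfl⟩ := exists_toImg hq
    obtain ⟨y, hy, rfl⟩ := exists_toImg hr
    obtain ⟨z, hz, hzx, hzy⟩ := hcommon x hx y hy fun h => hcqr (commute_toImg hx hy h)
    exact (hstep hq (toImg_mem hz) (commute_toImg hx hz hzx.symm)).trans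
      (hstep (toImg_mem hz) hr (commute_toImg hz hy hzy))
  obtain ⟨hn, hL, hF⟩ := CfsgLib.ThreeTransp.layer_component hcls hD2 hq2 hq3
  exact ⟨hcls, CfsgLib.ThreeTransp.isPrimitive_of_index_le_two hcls hD2 hq2 hq3 hL hF
    (CfsgLib.ThreeTransp.index_le_two_of_connected hcls hD2 hq2 hq3 hL hF hconn), hZ⟩

end Setting

end CfsgLib.FischerType
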