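import Cfsg.Agent.Lib.FischerType.Types

set_option autoImplicit false

/-! The factors of a product of at most three commuting members. -/

namespace CfsgLib.FischerType

open CfsgLib.ThreeTrans (link mul_self)
open CfsgLib.ThreeTransp (SameComm)

variable {G : Type*} [Group G] {D : Set G}

theorem commute_factor_two (hset : Cfsg.IsThreeTranspositionSet D) {a b c e : G} (ha : a ∈ D)
    (hb : b ∈ D) (hc : c ∈ D) (hab : a ≠ b) (cce : Commute c e) (h : a * b = c * e) :
    Commute c a ∧ Commute c b :=
  commute_of_commute_mul_two hset ha hb hc hab (h ▸ (Commute.refl c).mul_right cce)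

variable [Finite G] (S : Setting D)

include S

/-- A product of two different commuting members determines them. -/
theorem Setting.pair_unique {a b c e : G} (ha : a ∈ D) (hb : b ∈ D) (hc : c ∈ D) (he : e ∈ D)
    (hab : a ≠ b) (hce : c ≠ e) (cab : Commute a b) (cce : Commute c e) (h : a * b = c * e) :
    (a = c ∧ b = e) ∨ (a = e ∧ b = c) := by
  have hset := S.cls.1
  by_cases h1 : a = c
  · subst h1; exact Or.inl ⟨rfl, mul_left_cancel h⟩
  by_cases h2 : a = e
  · subst h2; exact Or.inr ⟨rfl, mul_left_cancel (h.trans cce.eq)⟩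
  by_cases h3 : b = c
  · subst h3; exact absurd (mul_left_cancel (cab.eq.symm.trans h)) h2
  by_cases h4 : b = e
  · subst h4; exact absurd (mul_right_cancel h) h1
  exfalso
  obtain ⟨hca, hcb⟩ := commute_factor_two hset ha hb hc hab cce h
  obtain ⟨hea, heb⟩ := commute_factor_two hset ha hb he hab cce.symm (h.trans cce.eq)
  have hone : a * b * c * e = 1 := by
    rw [mul_assoc, ← h, ← mul_assoc (a * b) a b, mul_assoc a b a, ← cab.eq, ← mul_assoc a a b,
      mul_self hset ha, one_mul, mul_self hset hb]
  have hone' : b * a * c * e = 1 := by rw [← cab.eq]; exact hone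
  refine hab (S.eq_of_sameComm a ha b hb fun x hx => ⟨fun hc' => ?_, fun hc' => ?_⟩)
  · exact (commute_of_commute_mul_four hset hb ha hc he hx h1 h2 hce hca.symm hea.symm cce
      (by rw [hone']; exact Commute.one_right x) hc'.symm).1.symm
  · exact (commute_of_commute_mul_four hset ha hb hc he hx h3 h4 hce hcb.symm heb.symm cce
      (by rw [hone]; exact Commute.one_right x) hc'.symm).1.symm

theorem Setting.triple_unique_of_common {a b c e f : G} (hb : b ∈ D) (hc : c ∈ D) (he : e ∈ D)
    (hf : f ∈ D) (hbc : b ≠ c) (hef : e ≠ f) (cbc : Commute b c) (cef : Commute e f)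
    (h : a * b * c = a * e * f) : ∀ x, x ∈ [a, b, c] ↔ x ∈ [a, e, f] := by
  have h' : b * c = e * f := by rw [mul_assoc, mul_assoc] at h; exact mul_left_cancel h
  rcases S.pair_unique hb hc he hf hbc hef cbc cef h' with ⟨rfl, rfl⟩ | ⟨rfl, rfl⟩
  · exact fun x => Iff.rfl
  · intro x
    simp only [List.mem_cons, List.not_mem_nil, or_false]
    tauto

/-- When no pair has twins among its common neighbours, a product of three different commuting members
determines them. -/
theorem Setting.triple_unique (hP : ∀ d ∈ D, ∀ e ∈ link D d, PairTwinFree D d e) {a b c d e f : G}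
    (ha : a ∈ D) (hb : b ∈ D) (hc : c ∈ D) (hd : d ∈ D) (he : e ∈ D) (hf : f ∈ D)
    (hab : a ≠ b) (hac : a ≠ c) (hbc : b ≠ c) (hde : d ≠ e) (hdf : d ≠ f) (hef : e ≠ f)
    (cab : Commute a b) (cac : Commute a c) (cbc : Commute b c)
    (cde : Commute d e) (cdf : Commute d f) (cef : Commute e f) (h : a * b * c = d * e * f) :
    ∀ x, x ∈ [a, b, c] ↔ x ∈ [d, e, f] := by
  have hset := S.cls.1
  have sw : ∀ {p q r : G}, Commute p q → p * q * r = q * p * r := fun hpq => by rw [hpq.eq]
  have sw' : ∀ {p q r : G}, Commute q r → p * q * r = p * r * q := fun {p q r} hqr => by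
    rw [mul_assoc, hqr.eq, ← mul_assoc]
  by_contra hne
  have common : ∀ p q r : G, p ∈ D → q ∈ D → r ∈ D → q ≠ r → Commute q r →
      p * q * r = a * b * c → (∀ x, x ∈ [p, q, r] ↔ x ∈ [a, b, c]) → p ≠ d ∧ p ≠ e ∧ p ≠ f := by
    intro p q r hp hq hr hqr cqr hpr hm
    refine ⟨fun hx => hne fun x => ?_, fun hx => hne fun x => ?_, fun hx => hne fun x => ?_⟩
    · subst hx
      rw [← hm, S.triple_unique_of_common hq hr he hf hqr hef cqr cef (hpr.trans h) x]
    · subst hx
      rw [← hm, S.triple_unique_of_common hq hr hd hf hqr hdf cqr cdf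
        ((hpr.trans h).trans (sw cde)) x]
      simp only [List.mem_cons, List.not_mem_nil, or_false]
      tauto
    · subst hx
      rw [← hm, S.triple_unique_of_common hq hr hd he hqr hde cqr cde
        ((hpr.trans h).trans ((sw' cef).trans (sw cdf))) x]
      simp only [List.mem_cons, List.not_mem_nil, or_false]
      tauto
  obtain ⟨had, hae, haf⟩ := common a b c ha hb hc hbc cbc rfl fun x => Iff.rfl
  obtain ⟨hbd, hbe, hbf⟩ := common b a c hb ha hc hac cac (sw cab.symm) fun x => by
    simp only [List.mem_cons, List.not_mem_nil, or_false]; tauto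
  obtain ⟨hcd, hce, hcf⟩ := common c a b hc ha hb hab cab ((sw cac.symm).trans (sw' cbc.symm))
    fun x => by simp only [List.mem_cons, List.not_mem_nil, or_false]; tauto
  have hdj : Commute d (a * b * c) := h ▸ ((Commute.refl d).mul_right cde).mul_right cdf
  have hej : Commute e (a * b * c) := h ▸ (cde.symm.mul_right (Commute.refl e)).mul_right cef
  have hfj : Commute f (a * b * c) := h ▸ (cdf.symm.mul_right cef.symm).mul_right (Commute.refl f)
  obtain ⟨da, db, -⟩ := commute_of_commute_mul_three hset ha hb hc hd hab hac hbc cab cac cbc hdj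
  obtain ⟨ea, eb, -⟩ := commute_of_commute_mul_three hset ha hb hc he hab hac hbc cab cac cbc hej
  obtain ⟨fa, fb, fc⟩ := commute_of_commute_mul_three hset ha hb hc hf hab hac hbc cab cac cbc hfj
  have hde' : a * b * c * f = d * e := by rw [h, mul_assoc _ f f, mul_self hset hf, mul_one]
  refine hab (hP d hd e ⟨he, hde.symm, cde⟩ a ⟨⟨ha, had, da⟩, ha, hae, ea⟩ b
    ⟨⟨hb, hbd, db⟩, hb, hbe, eb⟩ fun x hx => ?_)
  have hxde : Commute x (d * e) := hx.1.2.2.symm.mul_right hx.2.2.2.symm
  refine ⟨fun hxb => ?_, fun hxa => ?_⟩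
  · exact (commute_of_commute_mul_four hset hb ha hc hf hx.1.1 hac haf hcf cac fa.symm fc.symm
      (by rw [← cab.eq, hde']; exact hxde) hxb.symm).1.symm
  · exact (commute_of_commute_mul_four hset ha hb hc hf hx.1.1 hbc hbf hcf cbc fb.symm fc.symm
      (by rw [hde']; exact hxde) hxa.symm).1.symm

end CfsgLib.FischerType
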