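import Cfsg.Agent.Lib.ThreeTrans.RankThree

set_option autoImplicit false

/-! Members of a set of 3-transpositions commuting with a product of commuting members. -/

namespace CfsgLib.FischerType

open CfsgLib.ThreeTrans (mul_self inv_eq braid)

variable {G : Type*} [Group G] {D : Set G}

/-- A member commuting with a product of two different commuting members commutes with both. -/
theorem commute_of_commute_mul_two (hset : Cfsg.IsThreeTranspositionSet D) {a b x : G} (ha : a ∈ D)
    (hb : b ∈ D) (hx : x ∈ D) (hne : a ≠ b) (h : Commute x (a * b)) :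
    Commute x a ∧ Commute x b := by
  have ha2 := mul_self hset ha
  have hb2 := mul_self hset hb
  have hx2 := mul_self hset hx
  by_cases hxa : Commute x a
  · refine ⟨hxa, ?_⟩
    have h1 := hxa.mul_right h
    rwa [← mul_assoc, ha2, one_mul] at h1
  by_cases hxb : Commute x b
  · refine absurd ?_ hxa
    have h1 := h.mul_right hxb
    rwa [mul_assoc, hb2, mul_one] at h1
  exfalso
  have e1 : x * a * x = a * x * a := braid hset hx ha hxa
  have e2 : x * b * x = b * x * b := braid hset hx hb hxb
  have e3 : x * (a * b) * x = a * b := by rw [h.eq, mul_assoc, hx2, mul_one]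
  have e4 : a * b = a * x * a * (b * x * b) := by
    calc a * b = x * a * (1 : G) * b * x := by rw [mul_one]; simpa only [mul_assoc] using e3.symm
      _ = x * a * (x * x) * b * x := by rw [hx2]
      _ = (x * a * x) * (x * b * x) := by simp only [mul_assoc]
      _ = _ := by rw [e1, e2]
  have e5 : b = x * (a * b) * x * b := by
    have h4 : a * (a * b) = a * (a * x * a * (b * x * b)) := congrArg (a * ·) e4
    simp only [← mul_assoc, ha2, one_mul] at h4 ⊢
    exact h4
  rw [e3, mul_assoc, hb2, mul_one] at e5
  exact hne e5.symm

/-- A member commuting with a product of three different pairwise commuting members commutes with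
each of them. -/
theorem commute_of_commute_mul_three (hset : Cfsg.IsThreeTranspositionSet D) {a b c x : G}
    (ha : a ∈ D) (hb : b ∈ D) (hc : c ∈ D) (hx : x ∈ D) (hab : a ≠ b) (hac : a ≠ c) (hbc : b ≠ c)
    (cab : Commute a b) (cac : Commute a c) (cbc : Commute b c) (h : Commute x (a * b * c)) :
    Commute x a ∧ Commute x b ∧ Commute x c := by
  have ha2 := mul_self hset ha
  have hb2 := mul_self hset hb
  have hc2 := mul_self hset hc
  have hx2 := mul_self hset hx
  have key : ∀ {p q r : G}, p ∈ D → q ∈ D → r ∈ D → q ≠ r → p * q * r = a * b * c →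
      Commute x p → Commute x q ∧ Commute x r := by
    intro p q r hp hq hr hqr he hxp
    refine commute_of_commute_mul_two hset hq hr hx hqr ?_
    have h1 := hxp.mul_right (he ▸ h : Commute x (p * q * r))
    rwa [← mul_assoc, ← mul_assoc, mul_self hset hp, one_mul] at h1
  have hbac : b * a * c = a * b * c := by rw [cab.eq]
  have hcab : c * a * b = a * b * c := by rw [mul_assoc a b c, cbc.eq, ← mul_assoc, cac.eq]
  by_cases hxa : Commute x a
  · exact ⟨hxa, key ha hb hc hbc rfl hxa⟩
  by_cases hxb : Commute x b
  · exact absurd (key hb ha hc hac hbac hxb).1 hxa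
  by_cases hxc : Commute x c
  · exact absurd (key hc ha hb hab hcab hxc).1 hxa
  exfalso
  have e1 : x * a * x = a * x * a := braid hset hx ha hxa
  have e2 : x * b * x = b * x * b := braid hset hx hb hxb
  have e3 : x * c * x = c * x * c := braid hset hx hc hxc
  have e4 : a * b * c = a * x * a * (b * x * b) * (c * x * c) := by
    calc a * b * c = x * (a * b * c) * x := by rw [h.eq, mul_assoc _ x x, hx2, mul_one]
      _ = x * a * 1 * b * 1 * c * x := by simp only [mul_one, mul_assoc]
      _ = x * a * (x * x) * b * (x * x) * c * x := by rw [hx2]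
      _ = (x * a * x) * (x * b * x) * (x * c * x) := by simp only [mul_assoc]
      _ = _ := by rw [e1, e2, e3]
  have e5 : b = x * (a * b) * x * (b * c) * x := by
    calc b = a * (a * b * c) * c := by
          rw [← mul_assoc, ← mul_assoc, ha2, one_mul, mul_assoc, hc2, mul_one]
      _ = a * (a * x * a * (b * x * b) * (c * x * c)) * c := by rw [e4]
      _ = (a * a) * (x * (a * b) * x * (b * c) * x) * (c * c) := by simp only [mul_assoc]
      _ = _ := by rw [ha2, hc2, one_mul, mul_one]
  have e6 : a * b * x * (b * c) = b * x * b := by
    calc a * b * x * (b * c) = (x * x) * (a * b * x * (b * c)) * (x * x) := by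
          rw [hx2, one_mul, mul_one]
      _ = x * (x * (a * b) * x * (b * c) * x) * x := by simp only [mul_assoc]
      _ = x * b * x := by rw [← e5]
      _ = _ := e2
  have e7 : a * x * c = x := by
    rw [cab.eq, cbc.eq] at e6
    have h6 : b * (b * a * x * (c * b)) * b = b * (b * x * b) * b := by rw [e6]
    calc a * x * c = (b * b) * (a * x * c) * (b * b) := by rw [hb2, one_mul, mul_one]
      _ = b * (b * a * x * (c * b)) * b := by simp only [mul_assoc]
      _ = b * (b * x * b) * b := h6
      _ = (b * b) * x * (b * b) := by simp only [mul_assoc]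
      _ = x := by rw [hb2, one_mul, mul_one]
  have e8 : c = a * x * a := by
    calc c = x * (a * a) * x * c := by rw [ha2, mul_one, hx2, one_mul]
      _ = x * a * (a * x * c) := by simp only [mul_assoc]
      _ = _ := by rw [e7]; exact e1
  apply hxa
  have h9 : Commute (a * a * a) (a * x * a) := by rw [ha2, one_mul, ← e8]; exact cac
  have h10 : a * a * a * (a * x * a) = a * x * a * (a * a * a) := h9.eq
  rw [ha2, one_mul] at h10
  have h11 : x * a = a * x := by
    calc x * a = (a * a) * x * a := by rw [ha2, one_mul]
      _ = a * (a * x * a) := by simp only [mul_assoc]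
      _ = a * x * a * a := h10
      _ = a * x := by rw [mul_assoc, ha2, mul_one]
  exact h11

/-- A member commuting with a product of four different pairwise commuting members and with one of
them commutes with all of them. -/
theorem commute_of_commute_mul_four (hset : Cfsg.IsThreeTranspositionSet D) {a b c p x : G}
    (ha : a ∈ D) (hb : b ∈ D) (hc : c ∈ D) (hp : p ∈ D) (hx : x ∈ D) (hbc : b ≠ c) (hbp : b ≠ p)
    (hcp : c ≠ p) (cbc : Commute b c) (cbp : Commute b p) (ccp : Commute c p)
    (h : Commute x (a * b * c * p)) (hxa : Commute x a) :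
    Commute x b ∧ Commute x c ∧ Commute x p := by
  refine commute_of_commute_mul_three hset hb hc hp hx hbc hbp hcp cbc cbp ccp ?_
  have h1 := hxa.mul_right h
  rwa [← mul_assoc, ← mul_assoc, ← mul_assoc, mul_self hset ha, one_mul] at h1

end CfsgLib.FischerType
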