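import Mathlib
import Cfsg.Agent.Lib.FischerType.Sum
import Cfsg.Agent.Lib.ThreeTrans.Fischer
import Cfsg.Prelude.Def_FischerSpaces

set_option autoImplicit false

/-! The group generated by the link of a member, modulo its centre. -/

namespace CfsgLib.FischerType

open Subgroup
open CfsgLib.ThreeTrans (link)

variable {G : Type*} [Group G]

/-- The group generated by the link of `d`, modulo its centre. -/
abbrev Quot (D : Set G) (d : G) : Type _ :=
  ↥(closure (link D d)) ⧸ center ↥(closure (link D d))

/-- The image of the link of `d`. -/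
abbrev img (D : Set G) (d : G) : Set (Quot D d) :=
  (QuotientGroup.mk : ↥(closure (link D d)) → _) '' {x : ↥(closure (link D d)) | (x : G) ∈ link D d}

/-- The image of a member of the link. -/
abbrev toImg (D : Set G) (d : G) {w : G} (hw : w ∈ link D d) : Quot D d :=
  QuotientGroup.mk (⟨w, subset_closure hw⟩ : ↥(closure (link D d)))

variable {D : Set G} {d : G}

theorem toImg_mem {w : G} (hw : w ∈ link D d) : toImg D d hw ∈ img D d := ⟨_, hw, rfl⟩

theorem exists_toImg {q : Quot D d} (hq : q ∈ img D d) :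
    ∃ (w : G) (hw : w ∈ link D d), toImg D d hw = q := by
  obtain ⟨x, hx, rfl⟩ := hq
  exact ⟨x, hx, rfl⟩

theorem commute_toImg {u v : G} (hu : u ∈ link D d) (hv : v ∈ link D d) (h : Commute u v) :
    Commute (toImg D d hu) (toImg D d hv) := by
  have h1 : Commute (⟨u, subset_closure hu⟩ : ↥(closure (link D d))) ⟨v, subset_closure hv⟩ :=
    Subtype.ext h
  exact h1.map (QuotientGroup.mk' _)

/-- Members of the link commute as soon as their images do. -/
theorem commute_of_toImg (hset : Cfsg.IsThreeTranspositionSet D) {u v : G} (hu : u ∈ link D d)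
    (hv : v ∈ link D d) (h : Commute (toImg D d hu) (toImg D d hv)) : Commute u v := by
  by_contra hnc
  set a : ↥(closure (link D d)) := ⟨u, subset_closure hu⟩ with ha
  set b : ↥(closure (link D d)) := ⟨v, subset_closure hv⟩ with hb
  have h1 : (a * b) * (b * a)⁻¹ ∈ center ↥(closure (link D d)) := by
    rw [← QuotientGroup.eq_one_iff, QuotientGroup.mk_mul, QuotientGroup.mk_inv,
      mul_inv_eq_one, QuotientGroup.mk_mul, QuotientGroup.mk_mul]
    exact h.eq
  have hba : (b * a)⁻¹ = a * b := by
    refine Subtype.ext ?_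
    simp [ha, hb, CfsgLib.ThreeTrans.inv_eq hset hu.1, CfsgLib.ThreeTrans.inv_eq hset hv.1]
  rw [hba] at h1
  have h3 : (a * b) ^ 3 = 1 :=
    Subtype.ext (CfsgLib.ThreeTrans.cube_eq_one hset hu.1 hv.1 hnc)
  have h4 : a * b ∈ center ↥(closure (link D d)) := by
    have h5 : (a * b * (a * b))⁻¹ = a * b :=
      inv_eq_of_mul_eq_one_right (by rw [← h3, pow_succ, pow_two])
    rw [← h5]
    exact inv_mem h1
  refine hnc ?_
  have h6 : (u * v) * u = u * (u * v) := congrArg Subtype.val (mem_center_iff.1 h4 a).symm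
  rw [← mul_assoc, CfsgLib.ThreeTrans.mul_self hset hu.1, one_mul] at h6
  calc u * v = u * ((u * v) * u) := by rw [h6]
    _ = (u * u) * (v * u) := by simp only [mul_assoc]
    _ = v * u := by rw [CfsgLib.ThreeTrans.mul_self hset hu.1, one_mul]

/-- No member of the link commutes with the whole link. -/
def NoCentral (D : Set G) (d : G) : Prop := ∀ u ∈ link D d, ∃ w ∈ link D d, ¬ Commute u w

/-- The link map is injective when no member of the link is central. -/
theorem eq_of_toImg (hset : Cfsg.IsThreeTranspositionSet D) (hnc : NoCentral D d) {u v : G}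
    (hu : u ∈ link D d) (hv : v ∈ link D d) (h : toImg D d hu = toImg D d hv) : u = v := by
  by_contra hne
  obtain ⟨w, hw, hcw⟩ := hnc u hu
  refine hcw (commute_of_commute_mul_two hset hu.1 hv.1 hw.1 hne ?_).1.symm
  have h1 : (⟨u, subset_closure hu⟩ : ↥(closure (link D d)))⁻¹ * ⟨v, subset_closure hv⟩ ∈
      center ↥(closure (link D d)) := QuotientGroup.eq.1 h
  have h2 := congrArg Subtype.val (mem_center_iff.1 h1 ⟨w, subset_closure hw⟩)
  simp only [Subgroup.coe_mul, Subgroup.coe_inv, CfsgLib.ThreeTrans.inv_eq hset hu.1] at h2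
  exact h2

/-- A pair of non-commuting members of the image comes from one of the link. -/
theorem exists_pair_of_img {q r : Quot D d} (hq : q ∈ img D d) (hr : r ∈ img D d)
    (h : ¬ Commute q r) : ∃ u ∈ link D d, ∃ v ∈ link D d, ¬ Commute u v := by
  obtain ⟨u, hu, rfl⟩ := exists_toImg hq
  obtain ⟨v, hv, rfl⟩ := exists_toImg hr
  exact ⟨u, hu, v, hv, fun hc => h (commute_toImg hu hv hc)⟩

theorem closure_img : closure (img D d) = ⊤ := by
  have h := MonoidHom.map_closure (QuotientGroup.mk' (center ↥(closure (link D d))))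
    {x : ↥(closure (link D d)) | (x : G) ∈ link D d}
  have htop : closure {x : ↥(closure (link D d)) | (x : G) ∈ link D d} = ⊤ :=
    closure_closure_coe_preimage
  rw [htop, Subgroup.map_top_of_surjective _ (QuotientGroup.mk'_surjective _)] at h
  exact h.symm

/-- The quotient has trivial `O_p` if `O_p` of the link group is central. -/
theorem pCore_quot_eq_bot [Finite G] (p : ℕ) [hp : Fact p.Prime]
    (h : Cfsg.pCore p ↥(closure (link D d)) ≤ center ↥(closure (link D d))) :
    Cfsg.pCore p (Quot D d) = ⊥ := by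
  set H := closure (link D d)
  set π := QuotientGroup.mk' (center ↥H) with hπ
  set P := (Cfsg.pCore p (Quot D d)).comap π with hP
  have hPn : P.Normal := inferInstance
  haveI hnil : Group.IsNilpotent ↥P := by
    have := (CfsgLib.LargeXS.pCore_isPGroup p (Quot D d)).isNilpotent
    refine Subgroup.isNilpotent_of_ker_le_center
      (((π.comp P.subtype).codRestrict (Cfsg.pCore p (Quot D d)) fun x => x.2)) (fun x hx => ?_)
    have h2 : (x : ↥H) ∈ center ↥H := (QuotientGroup.eq_one_iff _).1 (congrArg Subtype.val hx)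
    exact mem_center_iff.2 fun y => Subtype.ext (mem_center_iff.1 h2 y)
  obtain ⟨Q⟩ : Nonempty (Sylow p ↥P) := inferInstance
  haveI hQn : (Q : Subgroup ↥P).Normal :=
    Q.normal_of_normalizerCondition Group.normalizerCondition_of_isNilpotent
  haveI := Q.characteristic_of_normal hQn
  haveI : ((Q : Subgroup ↥P).map P.subtype).Normal := inferInstance
  have hQ : (Q : Subgroup ↥P).map P.subtype ≤ center ↥H :=
    (CfsgLib.ThreeTransp.le_pCore inferInstance (Q.isPGroup'.map _)).trans h
  rw [eq_bot_iff]
  intro q hq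
  rw [mem_bot]
  obtain ⟨x, rfl⟩ := QuotientGroup.mk'_surjective (center ↥H) q
  have hxP : x ∈ P := hq
  obtain ⟨k, hk⟩ := CfsgLib.LargeXS.pCore_isPGroup p (Quot D d) ⟨_, hq⟩
  have hk' : π x ^ p ^ k = 1 := congrArg Subtype.val hk
  obtain ⟨a, m, hm, hn⟩ := Nat.exists_eq_pow_mul_and_not_dvd (orderOf_pos x).ne' p hp.out.ne_one
  have hym : x ^ m ∈ center ↥H := by
    have h1 : IsPGroup p (zpowers (⟨x, hxP⟩ ^ m : ↥P)) := by
      refine IsPGroup.of_card_dvd_pow (n := a) ?_
      rw [Nat.card_zpowers]
      refine orderOf_dvd_of_pow_eq_one (Subtype.ext ?_)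
      simp only [SubmonoidClass.coe_pow, OneMemClass.coe_one, ← pow_mul]
      rw [mul_comm, ← hn, pow_orderOf_eq_one]
    obtain ⟨Q', hQ'⟩ := h1.exists_le_sylow
    obtain ⟨c, hc⟩ := MulAction.exists_smul_eq ↥P Q Q'
    rw [Sylow.smul_eq_of_normal] at hc
    exact hQ ⟨_, hc ▸ hQ' (mem_zpowers _), rfl⟩
  have h2 : π x ^ m = 1 := by rw [← map_pow]; exact (QuotientGroup.eq_one_iff _).2 hym
  have h3 : orderOf (π x) ∣ Nat.gcd m (p ^ k) :=
    Nat.dvd_gcd (orderOf_dvd_of_pow_eq_one h2) (orderOf_dvd_of_pow_eq_one hk')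
  have h4 : Nat.gcd m (p ^ k) = 1 :=
    Nat.Coprime.gcd_eq_one (Nat.Coprime.pow_right k ((hp.out.coprime_iff_not_dvd.2 hm).symm))
  rw [h4, Nat.dvd_one] at h3
  exact orderOf_eq_one_iff.1 h3

/-- A simple group with two non-commuting elements has trivial `O_p`. -/
theorem pCore_eq_bot_of_simple {X : Type*} [Group X] [Finite X] (p : ℕ) [Fact p.Prime]
    (hs : IsSimpleGroup X) {a b : X} (hab : ¬ Commute a b) : Cfsg.pCore p X = ⊥ := by
  refine (IsSimpleGroup.eq_bot_or_eq_top_of_normal _ inferInstance).resolve_right fun htop => ?_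
  have h1 : IsPGroup p X := by
    have := CfsgLib.LargeXS.pCore_isPGroup p X
    rw [htop] at this
    exact this.of_equiv Subgroup.topEquiv
  rcases IsSimpleGroup.eq_bot_or_eq_top_of_normal (center X) inferInstance with h | h
  · have : Nontrivial X := hs.toNontrivial
    exact h1.bot_lt_center.ne h.symm
  · exact hab (mem_center_iff.1 (h ▸ mem_top b : b ∈ center X) a)

end CfsgLib.FischerType
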