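import Cfsg.Agent.Lib.FischerType.Levels
import Cfsg.Agent.Lib.Components.GenFitting

set_option autoImplicit false

/-! Twins and transitivity in groups of type M(22), M(23), M(24). -/

namespace CfsgLib.FischerType

open Subgroup
open CfsgLib.ThreeTrans (link commute_conj_iff' conj_self_of_commute conj_conj_eq)
open CfsgLib.ThreeTransp (SameComm)

theorem isSimpleGroup_of_psu {X : Type*} [Group X] {F : Type} [Field F] [Fintype F]
    (hF : Fintype.card F = 4) (e : X ≃* Cfsg.PSU 6 F 2) : IsSimpleGroup X := by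
  haveI := CfsgLib.Classical.Herm.isSimpleGroup_psu (F := F) (q := 2) (n := 6)
    (by rw [hF]; norm_num) (by norm_num) (by norm_num)
  haveI := e.toEquiv.nontrivial
  exact IsSimpleGroup.isSimpleGroup_of_surjective e.symm.toMonoidHom e.symm.surjective

variable {G : Type*} [Group G] [Finite G] {D : Set G}

omit [Finite G] in
/-- The data of type M(22): a member with simple link image. -/
theorem exists_simple_of_typeM22 (h : Cfsg.IsOfTypeM22 G D) :
    ∃ d ∈ D, IsSimpleGroup (Quot D d) := by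
  obtain ⟨-, d, hd, c, -, -, ⟨F, i1, i2, hF, ⟨e⟩⟩, -⟩ := h
  exact ⟨d, hd, isSimpleGroup_of_psu hF e⟩

/-- In type M(22) no link has twins. -/
theorem Setting.linkTwinFree_of_typeM22 (S : Setting D) (h : Cfsg.IsOfTypeM22 G D) :
    ∀ q ∈ D, LinkTwinFree D q := by
  intro q hq
  obtain ⟨d, hd, hs⟩ := exists_simple_of_typeM22 h
  haveI : Fact (Nat.Prime 2) := ⟨Nat.prime_two⟩
  have hpair := pair_of_nontrivial (D := D) (d := d) hs.toNontrivial
  have htf : LinkTwinFree D d := by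
    refine S.linkTwinFree_of_img hd hpair fun x hx y hy hxy => ?_
    obtain ⟨hset, hconj, -⟩ := CfsgLib.ThreeTransp.class_to_group (S.imgClass hd hpair)
    have h1 := CfsgLib.ThreeTransp.mul_mem_of_sameComm hset hconj hx hy hxy
    obtain ⟨u, hu, v, hv, huv⟩ := hpair
    rw [pCore_eq_bot_of_simple 2 hs (a := toImg D d hu) (b := toImg D d hv)
      (fun hc => huv (commute_of_toImg S.cls.1 hu hv hc)), mem_bot] at h1
    exact (eq_inv_of_mul_eq_one_left h1).trans (CfsgLib.ThreeTrans.inv_eq hset hy)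
  obtain ⟨g, rfl⟩ := CfsgLib.ThreeTransp.class_conj S.cls hd hq
  exact linkTwinFree_conj S.cls g htf

omit [Finite G] in
theorem pair_of_typeM22_img {d : G} (h : Cfsg.IsOfTypeM22 (Quot D d) (img D d)) :
    ∃ u ∈ link D d, ∃ v ∈ link D d, ¬ Commute u v := by
  obtain ⟨-, a, ha, b, hb, hab, -⟩ := h
  exact exists_pair_of_img ha hb hab

omit [Finite G] in
theorem pair_of_typeM23_img {d : G} (h : Cfsg.IsOfTypeM23 (Quot D d) (img D d)) :
    ∃ u ∈ link D d, ∃ v ∈ link D d, ¬ Commute u v := by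
  obtain ⟨-, a, ha, b, hb, hab, -⟩ := h
  exact exists_pair_of_img ha hb hab

/-- In type M(23) no link has twins. -/
theorem Setting.linkTwinFree_of_typeM23 (S : Setting D) (h : Cfsg.IsOfTypeM23 G D) :
    ∀ q ∈ D, LinkTwinFree D q := by
  intro q hq
  obtain ⟨-, d, hd, c, -, -, h22, -⟩ := h
  have hpair := pair_of_typeM22_img (D := D) (d := d) h22
  obtain ⟨d2, hd2, hs⟩ := exists_simple_of_typeM22 h22
  have htf : LinkTwinFree D d :=
    S.linkTwinFree_of_img hd hpair (eq_of_sameComm_of_simple (S.imgClass hd hpair) hd2 hs)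
  obtain ⟨g, rfl⟩ := CfsgLib.ThreeTransp.class_conj S.cls hd hq
  exact linkTwinFree_conj S.cls g htf

theorem setting_of_typeM23 (hD : Cfsg.IsThreeTranspositionGroup D)
    (hprim : Cfsg.IsPrimitiveUnderConj D) (h : Cfsg.IsOfTypeM23 G D) : Setting D :=
  ⟨CfsgLib.ThreeTransp.class_of_primitive hD hprim, hprim, h.1⟩

theorem setting_of_typeM24 (hD : Cfsg.IsThreeTranspositionGroup D)
    (hprim : Cfsg.IsPrimitiveUnderConj D) (h : Cfsg.IsOfTypeM24 G D) : Setting D :=
  ⟨CfsgLib.ThreeTransp.class_of_primitive hD hprim, hprim, h.1⟩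

/-- `O_p` of one link group central gives it for every link group. -/
theorem pCore_link_le_center (hc : Cfsg.IsThreeTranspositionClass D) {p : ℕ} {a b : G} (ha : a ∈ D)
    (hb : b ∈ D) (h : Cfsg.pCore p ↥(closure (link D a)) ≤ center ↥(closure (link D a))) :
    Cfsg.pCore p ↥(closure (link D b)) ≤ center ↥(closure (link D b)) := by
  obtain ⟨g, rfl⟩ := CfsgLib.ThreeTransp.class_conj hc ha hb
  have hmap : (closure (link D a)).map (MulAut.conj g).toMonoidHom =
      closure (link D (g * a * g⁻¹)) := by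
    rw [MonoidHom.map_closure, ← CfsgLib.ThreeTrans.link_conj hc]
    rfl
  let e := ((closure (link D a)).equivMapOfInjective (MulAut.conj g).toMonoidHom
    (MulAut.conj g).injective).trans (MulEquiv.subgroupCongr hmap)
  rw [← CfsgLib.Components.pCore_map_equiv p e]
  rintro _ ⟨x, hx, rfl⟩
  refine mem_center_iff.2 fun y => ?_
  obtain ⟨y, rfl⟩ := e.surjective y
  show e y * e x = e x * e y
  rw [← map_mul, ← map_mul, mem_center_iff.1 (h hx) y]

/-- In type M(23) the images of a link form a primitive class. -/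
theorem Setting.quotSetting_of_typeM23 (S : Setting D) (h : Cfsg.IsOfTypeM23 G D) {d₀ : G}
    (hd₀ : d₀ ∈ D)
    (h3 : Cfsg.pCore 3 ↥(closure (link D d₀)) ≤ center ↥(closure (link D d₀)))
    (h2 : Cfsg.pCore 2 ↥(closure (link D d₀)) ≤ center ↥(closure (link D d₀))) :
    ∃ d ∈ D, Setting (img D d) ∧ Cfsg.IsOfTypeM22 (Quot D d) (img D d) := by
  obtain ⟨-, d, hd, c, hc, hdc, h22, c₃, hc₃, hproj⟩ := h
  exact ⟨d, hd, S.quotSetting hd hc hdc (pair_of_typeM22_img h22)
    (not_solvable_of_isProj (by norm_num) hc₃ hproj) (pCore_link_le_center S.cls hd₀ hd h2)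
    (pCore_link_le_center S.cls hd₀ hd h3) h22.1, h22⟩

/-- In type M(24) the images of a link form a primitive class. -/
theorem Setting.quotSetting_of_typeM24 (S : Setting D) (h : Cfsg.IsOfTypeM24 G D) {d₀ : G}
    (hd₀ : d₀ ∈ D)
    (h3 : Cfsg.pCore 3 ↥(closure (link D d₀)) ≤ center ↥(closure (link D d₀)))
    (h2 : Cfsg.pCore 2 ↥(closure (link D d₀)) ≤ center ↥(closure (link D d₀))) :
    ∃ d ∈ D, Setting (img D d) ∧ Cfsg.IsOfTypeM23 (Quot D d) (img D d) := by
  obtain ⟨-, d, hd, c, hc, hdc, h23, N, hN, ⟨eN⟩, -⟩ := h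
  exact ⟨d, hd, S.quotSetting hd hc hdc (pair_of_typeM23_img h23)
    (not_solvable_of_typeM24_data eN) (pCore_link_le_center S.cls hd₀ hd h2)
    (pCore_link_le_center S.cls hd₀ hd h3) h23.1, h23⟩

/-- In types M(23) and M(24) no pair has twins among its common neighbours. -/
theorem pairTwinFree_of_type (hD : Cfsg.IsThreeTranspositionGroup D)
    (hprim : Cfsg.IsPrimitiveUnderConj D) {d₀ : G} (hd₀ : d₀ ∈ D)
    (h3 : Cfsg.pCore 3 ↥(closure (link D d₀)) ≤ center ↥(closure (link D d₀)))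
    (h2 : Cfsg.pCore 2 ↥(closure (link D d₀)) ≤ center ↥(closure (link D d₀)))
    (h : Cfsg.IsOfTypeM23 G D ∨ Cfsg.IsOfTypeM24 G D) :
    Setting D ∧ ∀ a ∈ D, ∀ b ∈ link D a, PairTwinFree D a b := by
  rcases h with h | h
  · have S := setting_of_typeM23 hD hprim h
    obtain ⟨d, hd, SX, hX⟩ := S.quotSetting_of_typeM23 h hd₀ h3 h2
    have hpair := pair_of_typeM22_img hX
    obtain ⟨u, hu, -⟩ := hpair
    have hpt := S.pairTwinFree_of_img hd hu (pair_of_typeM22_img hX)
      (SX.linkTwinFree_of_typeM22 hX _ (toImg_mem hu))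
    exact ⟨S, fun a ha b hb => S.pairTwinFree_all hd hu hpt ha hb⟩
  · have S := setting_of_typeM24 hD hprim h
    obtain ⟨d, hd, SX, hX⟩ := S.quotSetting_of_typeM24 h hd₀ h3 h2
    have hpair := pair_of_typeM23_img hX
    obtain ⟨u, hu, -⟩ := hpair
    have hpt := S.pairTwinFree_of_img hd hu (pair_of_typeM23_img hX)
      (SX.linkTwinFree_of_typeM23 hX _ (toImg_mem hu))
    exact ⟨S, fun a ha b hb => S.pairTwinFree_all hd hu hpt ha hb⟩

/-- When the image of one link is a primitive class, ordered triples of pairwise commuting different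
members are all conjugate. -/
theorem Setting.exists_conj_triple (S : Setting D) {d : G} (hd : d ∈ D)
    (hpair : ∃ u ∈ link D d, ∃ v ∈ link D d, ¬ Commute u v) (SX : Setting (img D d))
    {a b c a' b' c' : G} (ha : a ∈ D) (hb : b ∈ link D a) (hc : c ∈ link D a) (hcb : c ∈ link D b)
    (ha' : a' ∈ D) (hb' : b' ∈ link D a') (hc' : c' ∈ link D a') (hcb' : c' ∈ link D b') :
    ∃ g : G, g * a * g⁻¹ = a' ∧ g * b * g⁻¹ = b' ∧ g * c * g⁻¹ = c' := by
  obtain ⟨g₁, hg₁⟩ := CfsgLib.ThreeTransp.class_conj S.cls ha hd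
  obtain ⟨g₂, hg₂⟩ := CfsgLib.ThreeTransp.class_conj S.cls ha' hd
  have hn := S.noCentral hd hpair
  have mv : ∀ g {x : G}, g * x * g⁻¹ = d → ∀ {y : G}, y ∈ link D x → g * y * g⁻¹ ∈ link D d :=
    fun g x hx y hy => hx ▸ link_conj_mem S.cls g hy
  have hb1 := mv g₁ hg₁ hb
  have hc1 := mv g₁ hg₁ hc
  have hb2 := mv g₂ hg₂ hb'
  have hc2 := mv g₂ hg₂ hc'
  have hlink : ∀ g {x y : G} (hx : g * x * g⁻¹ ∈ link D d) (hy : g * y * g⁻¹ ∈ link D d),
      y ∈ link D x → toImg D d hy ∈ link (img D d) (toImg D d hx) := by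
    intro g x y hx hy hyx
    refine ⟨toImg_mem hy, fun h => hyx.2.1 ?_, commute_toImg hx hy ((commute_conj_iff' g x y).2 hyx.2.2)⟩
    exact mul_left_cancel (mul_right_cancel (eq_of_toImg S.cls.1 hn hy hx h))
  obtain ⟨q, hqb, hqc⟩ := SX.exists_conj_pair (toImg_mem hb1) (hlink g₁ hb1 hc1 hcb)
    (toImg_mem hb2) (hlink g₂ hb2 hc2 hcb')
  obtain ⟨⟨k, hk⟩, rfl⟩ := QuotientGroup.mk_surjective q
  have hkd : k * d * k⁻¹ = d := by
    refine conj_self_of_commute (mem_centralizer_singleton_iff.1 ?_)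
    exact ((closure_le _).2 fun e he => mem_centralizer_singleton_iff.2 he.2.2.eq.symm :
      closure (link D d) ≤ centralizer {d}) hk
  have hlift : ∀ {y z : G} (hy : y ∈ link D d) (hz : z ∈ link D d),
      (QuotientGroup.mk (⟨k, hk⟩ : ↥(closure (link D d))) : Quot D d) * toImg D d hy *
        (QuotientGroup.mk (⟨k, hk⟩ : ↥(closure (link D d))) : Quot D d)⁻¹ = toImg D d hz →
      k * y * k⁻¹ = z := by
    intro y z hy hz he
    have hmem : k * y * k⁻¹ ∈ link D d :=
      CfsgLib.ThreeTrans.linkClass_subset_link S.cls hy ⟨k, hk, rfl⟩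
    refine eq_of_toImg S.cls.1 hn hmem hz ?_
    rw [← he, ← QuotientGroup.mk_mul, ← QuotientGroup.mk_inv, ← QuotientGroup.mk_mul]
    rfl
  refine ⟨g₂⁻¹ * k * g₁, ?_, ?_, ?_⟩
  · rw [← conj_conj_eq, hg₁, ← conj_conj_eq, hkd, ← hg₂]; group
  · rw [← conj_conj_eq, ← conj_conj_eq, hlift hb1 hb2 hqb]; group
  · rw [← conj_conj_eq, ← conj_conj_eq, hlift hc1 hc2 hqc]; group

end CfsgLib.FischerType
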