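import Cfsg.Agent.Lib.FischerType.Sym

set_option autoImplicit false

/-! The properties of symmetries pass from the image of a link to the whole class. -/

namespace CfsgLib.FischerType

open Subgroup
open CfsgLib.ThreeTrans (link link_conj commute_conj_iff' conj_self_of_commute conj_conj_eq mul_self
  inv_eq braid)

variable {G : Type*} [Group G] [Finite G] {D : Set G}

theorem Setting.conj_mem_link (S : Setting D) (g : G) {a w : G} (hw : w ∈ link D a) :
    g * w * g⁻¹ ∈ link D (g * a * g⁻¹) := link_conj_mem S.cls g hw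

open _root_.Classical in
/-- The map of the image of a link induced by a map fixing the member. -/
noncomputable def imgMap (D : Set G) (d : G) (f : G → G) (q : Quot D d) : Quot D d :=
  if h : q ∈ img D d then
    if h' : f (exists_toImg h).choose ∈ link D d then toImg D d h' else q
  else q

theorem imgMap_toImg (hset : Cfsg.IsThreeTranspositionSet D) {d : G} (hn : NoCentral D d) {f : G → G}
    (hf : ∀ w ∈ link D d, f w ∈ link D d) {w : G} (hw : w ∈ link D d) :
    imgMap D d f (toImg D d hw) = toImg D d (hf w hw) := by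
  have hq := toImg_mem hw
  obtain ⟨hw', he⟩ := (exists_toImg hq).choose_spec
  have hwe : (exists_toImg hq).choose = w := eq_of_toImg hset hn hw' hw he
  rw [imgMap, dif_pos hq, dif_pos (by rw [hwe]; exact hf w hw)]
  exact congrArg _ (Subtype.ext (by simp only [hwe]))

theorem Setting.toImg_conj {d u v : G} (hu : u ∈ link D d) (hv : v ∈ link D d)
    (h : u * v * u ∈ link D d) :
    toImg D d hu * toImg D d hv * toImg D d hu = toImg D d h := rfl

theorem Setting.link_conj_self (S : Setting D) {d u v : G} (hu : u ∈ link D d) (hv : v ∈ link D d) :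
    u * v * u ∈ link D d := by
  have := S.conj_mem_link u hv
  rwa [conj_self_of_commute hu.2.2.symm, inv_eq S.cls.1 hu.1] at this

theorem Setting.imgSym (S : Setting D) {d : G} (hd : d ∈ D)
    (hpair : ∃ u ∈ link D d, ∃ v ∈ link D d, ¬ Commute u v) {f : G → G} (hf : Sym D f)
    (hfd : f d = d) : Sym (img D d) (imgMap D d f) := by
  have hn := S.noCentral hd hpair
  have hfl : ∀ w ∈ link D d, f w ∈ link D d := fun w hw => hfd ▸ hf.map_link S.cls hd hw
  refine ⟨fun q hq => ?_, fun q hq => ?_, fun q hq r hr => ?_⟩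
  · obtain ⟨w, hw, rfl⟩ := exists_toImg hq
    rw [imgMap_toImg S.cls.1 hn hfl hw]
    exact toImg_mem _
  · obtain ⟨w, hw, rfl⟩ := exists_toImg hq
    rw [imgMap_toImg S.cls.1 hn hfl hw, imgMap_toImg S.cls.1 hn hfl (hfl w hw)]
    exact congrArg _ (Subtype.ext (hf.invol w hw.1))
  · obtain ⟨u, hu, rfl⟩ := exists_toImg hq
    obtain ⟨v, hv, rfl⟩ := exists_toImg hr
    rw [Setting.toImg_conj hu hv (S.link_conj_self hu hv), imgMap_toImg S.cls.1 hn hfl,
      imgMap_toImg S.cls.1 hn hfl hu, imgMap_toImg S.cls.1 hn hfl hv]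
    exact congrArg _ (Subtype.ext (hf.conj u hu.1 v hv.1))

theorem Setting.hasLines_step (S : Setting D) {d : G} (hd : d ∈ D)
    (hpair : ∃ u ∈ link D d, ∃ v ∈ link D d, ¬ Commute u v)
    (hns : ∀ x ∈ D, ∀ y ∈ D, ¬ Commute x y → ¬ Group.IsSolvable ↥(closure (link D x ∩ link D y)))
    (hX : HasLines (img D d)) : HasLines D := by
  intro a ha b hb hab y hy hall
  obtain ⟨t, ht, hty⟩ : ∃ t ∈ link D a ∩ link D b, t ≠ y := by
    by_contra! hone
    refine hns a ha b hb hab ?_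
    have hle : closure (link D a ∩ link D b) ≤ zpowers y := (closure_le _).2 fun z hz => by
      rw [hone z hz]; exact mem_zpowers y
    exact Group.isSolvable_of_comm fun p q => Subtype.ext (by
      obtain ⟨i, hi⟩ := mem_zpowers_iff.1 (hle p.2)
      obtain ⟨j, hj⟩ := mem_zpowers_iff.1 (hle q.2)
      rw [Subgroup.coe_mul, Subgroup.coe_mul, ← hi, ← hj]
      exact ((Commute.refl y).zpow_zpow i j).eq)
  obtain ⟨g, rfl⟩ := CfsgLib.ThreeTransp.class_conj S.cls hd ht.1.1
  have e1 : ∀ z, g * (g⁻¹ * z * g⁻¹⁻¹) * g⁻¹ = z := fun z => by group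
  have e2 : g⁻¹ * (g * d * g⁻¹) * g⁻¹⁻¹ = d := by group
  have la : g⁻¹ * a * g⁻¹⁻¹ ∈ link D d :=
    e2 ▸ S.conj_mem_link g⁻¹ (show a ∈ link D (g * d * g⁻¹) from ⟨ha, ht.1.2.1.symm, ht.1.2.2.symm⟩)
  have lb : g⁻¹ * b * g⁻¹⁻¹ ∈ link D d :=
    e2 ▸ S.conj_mem_link g⁻¹ (show b ∈ link D (g * d * g⁻¹) from ⟨hb, ht.2.2.1.symm, ht.2.2.2.symm⟩)
  have ly : g⁻¹ * y * g⁻¹⁻¹ ∈ link D d :=
    e2 ▸ S.conj_mem_link g⁻¹ (show y ∈ link D (g * d * g⁻¹) from ⟨hy, hty.symm, (hall _ ht).symm⟩)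
  have hnc : ¬ Commute (toImg D d la) (toImg D d lb) := fun h =>
    hab ((commute_conj_iff' g⁻¹ a b).1 (commute_of_toImg S.cls.1 la lb h))
  have hn := S.noCentral hd hpair
  have key := hX _ (toImg_mem la) _ (toImg_mem lb) hnc _ (toImg_mem ly) (by
    rintro q ⟨⟨hq, hqa, hca⟩, -, hqb, hcb⟩
    obtain ⟨w, hw, rfl⟩ := exists_toImg hq
    have ca := commute_of_toImg S.cls.1 la hw hca
    have cb := commute_of_toImg S.cls.1 lb hw hcb
    have hwT : g * w * g⁻¹ ∈ link D a ∩ link D b := by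
      refine ⟨⟨CfsgLib.ThreeTransp.class_conj_mem S.cls g hw.1, fun h => hqa ?_, ?_⟩,
        CfsgLib.ThreeTransp.class_conj_mem S.cls g hw.1, fun h => hqb ?_, ?_⟩
      · exact congrArg _ (Subtype.ext (show w = g⁻¹ * a * g⁻¹⁻¹ by rw [← h]; group))
      · have := (commute_conj_iff' g _ _).2 ca; rwa [e1] at this
      · exact congrArg _ (Subtype.ext (show w = g⁻¹ * b * g⁻¹⁻¹ by rw [← h]; group))
      · have := (commute_conj_iff' g _ _).2 cb; rwa [e1] at this
    refine commute_toImg ly hw ?_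
    rw [← commute_conj_iff' g, e1]
    exact hall _ hwT)
  rcases key with h | h | h
  · exact Or.inl (mul_left_cancel (mul_right_cancel (eq_of_toImg S.cls.1 hn ly la h)))
  · exact Or.inr (Or.inl (mul_left_cancel (mul_right_cancel (eq_of_toImg S.cls.1 hn ly lb h))))
  · rw [Setting.toImg_conj la lb (S.link_conj_self la lb)] at h
    refine Or.inr (Or.inr ?_)
    rw [← e1 y, eq_of_toImg S.cls.1 hn ly _ h]
    group

theorem Setting.noSwap_step (S : Setting D) {d : G} (hd : d ∈ D)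
    (hpair : ∃ u ∈ link D d, ∃ v ∈ link D d, ¬ Commute u v)
    (hedge : ∃ u ∈ link D d, ∃ v ∈ link D d, u ≠ v ∧ Commute u v)
    (hX : NoSwap (img D d)) : NoSwap D := by
  intro f hf a ha hmov hcom hfix
  have hb : f a ∈ link D a := ⟨hf.mem a ha, hmov, hcom⟩
  obtain ⟨u, hu, v, hv, huv, cuv⟩ := hedge
  obtain ⟨g₀, hg₀d, hg₀u⟩ := S.exists_conj_pair hd hu ha hb
  have hcW : g₀ * v * g₀⁻¹ ∈ link D a ∩ link D (f a) := by
    refine ⟨hg₀d ▸ S.conj_mem_link g₀ hv, ?_⟩
    rw [← hg₀u]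
    exact S.conj_mem_link g₀ ⟨hv.1, huv.symm, cuv⟩
  obtain ⟨g, hg⟩ := CfsgLib.ThreeTransp.class_conj S.cls hcW.1.1 hd
  set c := g₀ * v * g₀⁻¹ with hc
  set f' : G → G := fun y => g * f (g⁻¹ * y * g) * g⁻¹ with hf'def
  have hf' : Sym D f' := hf.conj_sym S.cls g
  have e1 : ∀ z, g⁻¹ * (g * z * g⁻¹) * g = z := fun z => by group
  have fval : ∀ z, f' (g * z * g⁻¹) = g * f z * g⁻¹ := fun z => by simp only [hf'def, e1]
  have hfd : f' d = d := by rw [← hg, fval, hfix c hcW]
  have la : g * a * g⁻¹ ∈ link D d :=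
    hg ▸ S.conj_mem_link g (show a ∈ link D c from ⟨ha, hcW.1.2.1.symm, hcW.1.2.2.symm⟩)
  have hn := S.noCentral hd hpair
  have hfl : ∀ w ∈ link D d, f' w ∈ link D d := fun w hw => hfd ▸ hf'.map_link S.cls hd hw
  have lfa : g * f a * g⁻¹ ∈ link D d := fval a ▸ hfl _ la
  have eimg : imgMap D d f' (toImg D d la) = toImg D d lfa := by
    rw [imgMap_toImg S.cls.1 hn hfl la]
    exact congrArg _ (Subtype.ext (fval a))
  refine hX _ (S.imgSym hd hpair hf' hfd) _ (toImg_mem la) (fun h => hmov ?_) ?_ ?_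
  · rw [eimg] at h
    exact mul_left_cancel (mul_right_cancel (eq_of_toImg S.cls.1 hn lfa la h))
  · rw [eimg]
    exact commute_toImg la lfa ((commute_conj_iff' g a (f a)).2 hcom)
  · rw [eimg]
    rintro q ⟨⟨hq, hqa, hca⟩, -, hqb, hcb⟩
    obtain ⟨w, hw, rfl⟩ := exists_toImg hq
    have ca := commute_of_toImg S.cls.1 la hw hca
    have cb := commute_of_toImg S.cls.1 lfa hw hcb
    have e3 : ∀ z, g * (g⁻¹ * z * g⁻¹⁻¹) * g⁻¹ = z := fun z => by group
    have hmem := CfsgLib.ThreeTransp.class_conj_mem S.cls g⁻¹ hw.1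
    have hw' : g⁻¹ * w * g⁻¹⁻¹ ∈ link D a ∩ link D (f a) := by
      refine ⟨⟨hmem, fun h => hqa ?_, ?_⟩, hmem, fun h => hqb ?_, ?_⟩
      · exact congrArg _ (Subtype.ext (show w = g * a * g⁻¹ by rw [← h]; group))
      · rw [← commute_conj_iff' g, e3]; exact ca
      · exact congrArg _ (Subtype.ext (show w = g * f a * g⁻¹ by rw [← h]; group))
      · rw [← commute_conj_iff' g, e3]; exact cb
    rw [imgMap_toImg S.cls.1 hn hfl hw]
    refine congrArg _ (Subtype.ext ?_)
    show f' w = w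
    calc f' w = f' (g * (g⁻¹ * w * g⁻¹⁻¹) * g⁻¹) := by rw [e3]
      _ = g * f (g⁻¹ * w * g⁻¹⁻¹) * g⁻¹ := fval _
      _ = w := by rw [hfix _ hw', e3]

theorem Setting.freeInner_step (S : Setting D) {d : G} (hd : d ∈ D)
    (hpair : ∃ u ∈ link D d, ∃ v ∈ link D d, ¬ Commute u v)
    (hns : ∀ x ∈ D, ∀ y ∈ D, ¬ Commute x y → ¬ Group.IsSolvable ↥(closure (link D x ∩ link D y)))
    (hlines : HasLines D) (hX : FreeInner (img D d)) : FreeInner D := by
  intro f₀ hf₀ hfree₀ p₀ hp₀ hmov₀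
  have hnc₀ : ¬ Commute p₀ (f₀ p₀) := (hfree₀ p₀ hp₀).resolve_left hmov₀
  have hp₀' := hf₀.mem p₀ hp₀
  obtain ⟨t₀, ht₀⟩ : (link D p₀ ∩ link D (f₀ p₀)).Nonempty := by
    by_contra hne
    refine hns p₀ hp₀ _ hp₀' hnc₀ ?_
    rw [Set.not_nonempty_iff_eq_empty.1 hne, Subgroup.closure_empty]
    exact Group.isSolvable_of_comm fun p q => Subsingleton.elim _ _
  obtain ⟨c, hcT, hfc⟩ : ∃ c ∈ link D p₀ ∩ link D (f₀ p₀), f₀ c = c := by
    by_cases h : f₀ t₀ = t₀
    · exact ⟨t₀, ht₀, h⟩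
    have hnc := (hfree₀ t₀ ht₀.1.1).resolve_left h
    refine ⟨t₀ * f₀ t₀ * t₀, ?_, hf₀.fix_third S.cls ht₀.1.1 hnc⟩
    have h1 : f₀ t₀ ∈ link D (f₀ p₀) := hf₀.map_link S.cls hp₀ ht₀.1
    have h2 : f₀ t₀ ∈ link D p₀ := by
      have := hf₀.map_link S.cls hp₀' ht₀.2
      rwa [hf₀.invol p₀ hp₀] at this
    exact ⟨S.link_conj_self ht₀.1 h2, S.link_conj_self ht₀.2 h1⟩
  obtain ⟨g, hg⟩ := CfsgLib.ThreeTransp.class_conj S.cls hcT.1.1 hd
  set f : G → G := fun y => g * f₀ (g⁻¹ * y * g) * g⁻¹ with hfdef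
  have hf : Sym D f := hf₀.conj_sym S.cls g
  have e1 : ∀ z, g⁻¹ * (g * z * g⁻¹) * g = z := fun z => by group
  have fval : ∀ z, f (g * z * g⁻¹) = g * f₀ z * g⁻¹ := fun z => by simp only [hfdef, e1]
  have hfd : f d = d := by rw [← hg, fval, hfc]
  set p := g * p₀ * g⁻¹ with hpdef
  have hfp : f p = g * f₀ p₀ * g⁻¹ := fval p₀
  have lp : p ∈ link D d :=
    hg ▸ S.conj_mem_link g (show p₀ ∈ link D c from ⟨hp₀, hcT.1.2.1.symm, hcT.1.2.2.symm⟩)
  have hfl : ∀ w ∈ link D d, f w ∈ link D d := fun w hw => hfd ▸ hf.map_link S.cls hd hw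
  have hnc : ¬ Commute p (f p) := by rw [hfp]; exact fun h => hnc₀ ((commute_conj_iff' g _ _).1 h)
  have hn := S.noCentral hd hpair
  have hfree : Free D f := by
    intro z hz
    have hz' : g⁻¹ * z * g ∈ D := by simpa using CfsgLib.ThreeTransp.class_conj_mem S.cls g⁻¹ hz
    have e3 : g * (g⁻¹ * z * g) * g⁻¹ = z := by group
    rcases hfree₀ _ hz' with h | h
    · left; rw [← e3, fval, h]
    · right; rw [← e3, fval]
      exact fun h' => h ((commute_conj_iff' g _ _).1 h')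
  set x := p * f p * p with hxdef
  have hxl : x ∈ link D d := S.link_conj_self lp (hfl p lp)
  have hfx : f x = x := hf.fix_third S.cls lp.1 hnc
  have hinner : ∀ w ∈ link D d, f w = x * w * x := by
    intro w hw
    have hbar := hX _ (S.imgSym hd hpair hf hfd) (by
      intro q hq
      obtain ⟨v, hv, rfl⟩ := exists_toImg hq
      rw [imgMap_toImg S.cls.1 hn hfl hv]
      rcases hfree v hv.1 with h | h
      · exact Or.inl (congrArg _ (Subtype.ext h))
      · exact Or.inr fun h' => h (commute_of_toImg S.cls.1 hv (hfl v hv) h'))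
      (toImg D d lp) (toImg_mem lp) (fun h => by
        rw [imgMap_toImg S.cls.1 hn hfl lp] at h
        have hx := eq_of_toImg S.cls.1 hn (hfl p lp) lp h
        exact hnc (hx.symm ▸ Commute.refl p)) _ (toImg_mem hw)
    rw [imgMap_toImg S.cls.1 hn hfl lp, Setting.toImg_conj lp (hfl p lp) hxl,
      Setting.toImg_conj hxl hw (S.link_conj_self hxl hw), imgMap_toImg S.cls.1 hn hfl hw] at hbar
    exact eq_of_toImg S.cls.1 hn (hfl w hw) (S.link_conj_self hxl hw) hbar
  clear_value x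
  have x2 := mul_self S.cls.1 hxl.1
  have hsq : ∀ z, x * (x * z * x) * x = z := fun z => by
    rw [← mul_assoc, ← mul_assoc, x2, one_mul, mul_assoc, x2, mul_one]
  have hhd : x * f d * x = d := by rw [hfd, (conj_eq_self_iff S.cls.1 hxl.1).2 hxl.2.2.symm]
  have hhl : ∀ w ∈ link D d, x * f w * x = w := fun w hw => by rw [hinner w hw, hsq]
  have main : ∀ y ∈ D, f y = x * y * x := by
    rcases S.extend hlines (hf.mul_fixed S.cls hxl.1 hfx) hd lp hhd hhl with h | h
    · intro y hy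
      calc f y = x * (x * f y * x) * x := (hsq _).symm
        _ = x * y * x := by rw [h y hy]
    · exfalso
      obtain ⟨z, hz, hzd, hzx⟩ := S.exists_not_commute_both hd hxl
      have h1 : f z = x * (d * z * d) * x := by
        calc f z = x * (x * f z * x) * x := (hsq _).symm
          _ = _ := by rw [h z hz fun h' => hzd h'.symm]
      have hxd : Commute x d := hxl.2.2.symm
      have hform : f z = x * d * z * (x * d)⁻¹ := by
        rw [h1, mul_inv_rev, inv_eq S.cls.1 hxl.1, inv_eq S.cls.1 hd]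
        simp only [mul_assoc]
      have hcc : Commute (f z) z := by
        rw [hform]
        exact CfsgLib.ThreeTransp.commute_conj_conj S.cls.1 hxl.1 hd hz hxd
          (fun h' => hzx h'.symm) fun h' => hzd h'.symm
      rcases hfree z hz with h2 | h2
      · refine hzx (commute_of_commute_mul_two S.cls.1 hxl.1 hd hz hxl.2.1 ?_).1
        rw [hform] at h2
        exact (mul_inv_eq_iff_eq_mul.1 h2).symm
      · exact h2 hcc.symm
  intro y hy
  have hy' := CfsgLib.ThreeTransp.class_conj_mem S.cls g hy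
  have h1 := main _ hy'
  rw [fval, hxdef, hfp, hpdef] at h1
  refine mul_left_cancel (a := g) (mul_right_cancel (b := g⁻¹) ?_)
  rw [h1]
  group

/-- All three properties pass up. -/
theorem Setting.good_step (S : Setting D) {d : G} (hd : d ∈ D)
    (hpair : ∃ u ∈ link D d, ∃ v ∈ link D d, ¬ Commute u v)
    (hedge : ∃ u ∈ link D d, ∃ v ∈ link D d, u ≠ v ∧ Commute u v)
    (hns : ∀ x ∈ D, ∀ y ∈ D, ¬ Commute x y → ¬ Group.IsSolvable ↥(closure (link D x ∩ link D y)))
    (hX : Good (img D d)) : Good D :=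
  have hl := S.hasLines_step hd hpair hns hX.lines
  ⟨hl, S.noSwap_step hd hpair hedge hX.noSwap, S.freeInner_step hd hpair hns hl hX.freeInner⟩

end CfsgLib.FischerType
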