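import Cfsg.Agent.Lib.U6Cover.Transv
import Cfsg.Agent.Lib.ThreeTransp.Classes

set_option autoImplicit false

/-! In the projective special unitary group of dimension six over the field with four elements a class
of 3-transpositions consists of the transvections. -/

namespace CfsgLib.FischerType.U6

open CfsgLib.Classical.Herm HermSpace CfsgLib.UnitaryTransv CfsgLib.U6Cover

variable {F : Type*} [Field F] [Fintype F] {n : ℕ} (hF : Fintype.card F = 2 ^ 2)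

local notation "𝓗" => stdHerm hF n

/-- A transvection commutes with an isometry fixing its centre. -/
theorem commute_tv_of_fix (k : Unit' 𝓗) (v : Fin n → F) (hv : (𝓗).h v v = 0) (hk : k.1 v = v) :
    Commute k (tv hF v hv) := by
  have := tv_conj hF k v hv
  rw [tv_congr hF _ hv hk] at this
  exact mul_inv_eq_iff_eq_mul.mp this

theorem tv_commute_of_orth {v w : Fin n → F} (hv : (𝓗).h v v = 0) (hw : (𝓗).h w w = 0)
    (h : (𝓗).h w v = 0) : Commute (tv hF v hv) (tv hF w hw) :=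
  commute_tv_of_fix hF _ w hw (by rw [tv_apply, h, zero_smul, add_zero])

theorem orth_of_tv_commute {v w : Fin n → F} (hv : (𝓗).h v v = 0) (hw : (𝓗).h w w = 0)
    (hw0 : w ≠ 0) (h : Commute (tv hF v hv) (tv hF w hw)) : (𝓗).h w v = 0 := by
  by_contra hne
  have hcommapp : ∀ x, (tv hF v hv).1 ((tv hF w hw).1 x) = (tv hF w hw).1 ((tv hF v hv).1 x) :=
    fun x => by rw [← CfsgLib.Classical.Herm.mul_apply, h.eq, CfsgLib.Classical.Herm.mul_apply]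
  have hvw : (𝓗).h v w ≠ 0 := fun h0 => hne ((𝓗).h_comm_zero h0)
  have e : ∀ x, ((𝓗).h x w * (𝓗).h w v) • v = ((𝓗).h x v * (𝓗).h v w) • w := by
    intro x
    have h1 := hcommapp x
    simp only [tv_apply, (𝓗).add_left, (𝓗).smul_left] at h1
    linear_combination (norm := module) h1
  obtain ⟨x, hx⟩ : ∃ x, (𝓗).h x w ≠ 0 := ⟨v, hvw⟩
  have e1 := e w
  rw [hw, zero_mul, zero_smul, eq_comm, smul_eq_zero] at e1
  exact hw0 (e1.resolve_left (mul_ne_zero hne hvw))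

/-- The bad product: two commuting transvections times two others. -/
theorem path_product (v₁ v₂ a₁ a₂ : Fin n → F) (hv₁ : (𝓗).h v₁ v₁ = 0) (hv₂ : (𝓗).h v₂ v₂ = 0)
    (h12 : (𝓗).h v₁ v₂ = 0) (ha₁ : (𝓗).h a₁ a₁ = 0) (ha₂ : (𝓗).h a₂ a₂ = 0)
    (ha12 : (𝓗).h a₁ a₂ = 0) (p11 : (𝓗).h a₁ v₁ = 1) (p22 : (𝓗).h a₂ v₂ = 1)
    (p12 : (𝓗).h a₁ v₂ = 0) (p21 : (𝓗).h a₂ v₁ = 0) (hw : (𝓗).h (a₁ + a₂) (a₁ + a₂) = 0) :
    let P := tv hF v₁ hv₁ * tv hF v₂ hv₂ * (tv hF (a₁ + a₂) hw * tv hF a₂ ha₂)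
    ¬ Commute (P ^ 2) (tv hF v₁ hv₁) ∧ ¬ Commute (P ^ 3) (tv hF v₁ hv₁) := by
  intro P
  have q11 := (𝓗).h_comm_one p11
  have q22 := (𝓗).h_comm_one p22
  have q12 := (𝓗).h_comm_zero p12
  have q21 := (𝓗).h_comm_zero p21
  have h21 := (𝓗).h_comm_zero h12
  have ha21 := (𝓗).h_comm_zero ha12
  have hP : ∀ x, P.1 x = (tv hF v₁ hv₁).1 ((tv hF v₂ hv₂).1
      ((tv hF (a₁ + a₂) hw).1 ((tv hF a₂ ha₂).1 x))) := fun x => by
    simp only [P, CfsgLib.Classical.Herm.mul_apply]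
  have z2 : ∀ y : Fin n → F, y + y = 0 := fun y => smul_add_self_zero hF y
  have P1 : P.1 v₁ = v₂ + a₁ + a₂ := by
    simp only [hP, tv_apply, (𝓗).add_left, (𝓗).add_right, (𝓗).smul_left, hv₁, hv₂, h12, h21, ha₁,
      ha₂, ha12, ha21, p11, p22, p12, p21, q11, q22, q12, q21, zero_smul, one_smul, add_zero,
      zero_add, mul_zero, mul_one]
    linear_combination (norm := module) z2 v₁
  have P2 : P.1 (v₂ + a₁ + a₂) = a₂ := by
    simp only [hP, tv_apply, (𝓗).add_left, (𝓗).add_right, (𝓗).smul_left, hv₁, hv₂, h12, h21, ha₁,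
      ha₂, ha12, ha21, p11, p22, p12, p21, q11, q22, q12, q21, zero_smul, one_smul, add_zero,
      zero_add, mul_zero, mul_one, add_self_zero hF, add_smul]
    linear_combination (norm := module) z2 v₂ + z2 a₁ + z2 a₂
  have P3 : P.1 a₂ = v₂ + a₂ := by
    simp only [hP, tv_apply, (𝓗).add_left, (𝓗).add_right, (𝓗).smul_left, hv₁, hv₂, h12, h21, ha₁,
      ha₂, ha12, ha21, p11, p22, p12, p21, q11, q22, q12, q21, zero_smul, one_smul, add_zero,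
      zero_add, mul_zero, mul_one]
    abel
  have key : ∀ (Z : Unit' 𝓗), Commute Z (tv hF v₁ hv₁) → (𝓗).h v₂ v₁ = 0 →
      (𝓗).h v₂ (Z.1 v₁) = 0 ∨ Z.1 v₁ = 0 := by
    intro Z hZ h0
    have h1 : Z.1 ((tv hF v₁ hv₁).1 ((Z⁻¹).1 v₂)) = v₂ + (𝓗).h v₂ (Z.1 v₁) • Z.1 v₁ := by
      have h2 := tv_conj hF Z v₁ hv₁
      rw [← CfsgLib.Classical.Herm.mul_apply, ← CfsgLib.Classical.Herm.mul_apply, h2, tv_apply]
    have h3 : Z.1 ((tv hF v₁ hv₁).1 ((Z⁻¹).1 v₂)) = v₂ := by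
      rw [← CfsgLib.Classical.Herm.mul_apply, hZ.eq, CfsgLib.Classical.Herm.mul_apply, self_apply_inv,
        tv_apply, h0, zero_smul, add_zero]
    rw [h3, left_eq_add, smul_eq_zero] at h1
    exact h1
  refine ⟨fun hc => ?_, fun hc => ?_⟩
  · have h2 : (P ^ 2).1 v₁ = a₂ := by
      rw [pow_two, CfsgLib.Classical.Herm.mul_apply, P1, P2]
    rcases key _ hc h21 with h | h <;> rw [h2] at h
    · rw [q22] at h; exact one_ne_zero h
    · rw [h, (𝓗).zero_left] at p22; exact zero_ne_one p22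
  · have h3 : (P ^ 3).1 v₁ = v₂ + a₂ := by
      rw [pow_succ, pow_two, CfsgLib.Classical.Herm.mul_apply, CfsgLib.Classical.Herm.mul_apply, P1,
        P2, P3]
    rcases key _ hc h21 with h | h <;> rw [h3] at h
    · rw [(𝓗).add_right, hv₂, q22, zero_add] at h; exact one_ne_zero h
    · have h4 : (𝓗).h (v₂ + a₂) v₂ = 1 := by rw [(𝓗).add_left, hv₂, p22, zero_add]
      rw [h, (𝓗).zero_left] at h4; exact zero_ne_one h4

/-- Conjugation by the product of a path of four. -/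
theorem path_conj {M : Type*} [Group M] {s₁ s₂ s₃ s₄ : M} (i1 : s₁ * s₁ = 1) (i2 : s₂ * s₂ = 1)
    (i3 : s₃ * s₃ = 1) (i4 : s₄ * s₄ = 1) (b12 : s₁ * s₂ * s₁ = s₂ * s₁ * s₂)
    (b34 : s₃ * s₄ * s₃ = s₄ * s₃ * s₄) (c13 : Commute s₁ s₃) (c14 : Commute s₁ s₄)
    (c24 : Commute s₂ s₄) :
    (s₁ * s₂ * s₃ * s₄) * s₁ * (s₁ * s₂ * s₃ * s₄)⁻¹ = s₂ ∧
      (s₁ * s₂ * s₃ * s₄) * s₃ * (s₁ * s₂ * s₃ * s₄)⁻¹ = s₄ := by
  have e1 : s₁⁻¹ = s₁ := inv_eq_of_mul_eq_one_right i1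
  have e2 : s₂⁻¹ = s₂ := inv_eq_of_mul_eq_one_right i2
  have e3 : s₃⁻¹ = s₃ := inv_eq_of_mul_eq_one_right i3
  have e4 : s₄⁻¹ = s₄ := inv_eq_of_mul_eq_one_right i4
  constructor
  · calc (s₁ * s₂ * s₃ * s₄) * s₁ * (s₁ * s₂ * s₃ * s₄)⁻¹
        = s₁ * s₂ * (s₃ * (s₄ * s₁ * s₄⁻¹) * s₃⁻¹) * s₂⁻¹ * s₁⁻¹ := by group
      _ = s₁ * s₂ * s₁ * s₂ * s₁ := by
          rw [c14.symm.eq, mul_inv_cancel_right, c13.symm.eq, mul_inv_cancel_right, e1, e2]
      _ = _ := by rw [b12, mul_assoc (s₂ * s₁) s₂ s₂, i2, mul_one, mul_assoc s₂ s₁ s₁, i1, mul_one]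
  · calc (s₁ * s₂ * s₃ * s₄) * s₃ * (s₁ * s₂ * s₃ * s₄)⁻¹
        = s₁ * (s₂ * (s₃ * s₄ * s₃ * (s₄⁻¹ * s₃⁻¹)) * s₂⁻¹) * s₁⁻¹ := by group
      _ = s₁ * (s₂ * s₄ * s₂⁻¹) * s₁⁻¹ := by
          rw [b34, e4, e3, show s₄ * s₃ * s₄ * (s₄ * s₃) = s₄ by
            calc s₄ * s₃ * s₄ * (s₄ * s₃) = s₄ * (s₃ * (s₄ * s₄) * s₃) := by group
              _ = s₄ := by rw [i4, mul_one, i3, mul_one]]
      _ = _ := by rw [c24.eq, mul_inv_cancel_right, c14.eq, mul_inv_cancel_right]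

theorem tv_braid {v w : Fin n → F} (hv : (𝓗).h v v = 0) (hw : (𝓗).h w w = 0)
    (h : (𝓗).h w v = 1) :
    tv hF v hv * tv hF w hw * tv hF v hv = tv hF w hw * tv hF v hv * tv hF w hw := by
  have e1 := tv_conj hF (tv hF v hv) w hw
  rw [tv_inv] at e1
  have e2 := tv_conj hF (tv hF w hw) v hv
  rw [tv_inv] at e2
  rw [e1, e2]
  refine tv_congr hF _ _ ?_
  rw [tv_apply, tv_apply, h, (𝓗).h_comm_one h, one_smul, one_smul, add_comm]

/-- An involution which is not a transvection has a conjugate with a product of large order. -/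
theorem exists_bad_conj (k : Unit' 𝓗) (hk : k * k = 1) (hk1 : k ≠ 1)
    (hnt : ∀ v (hv : (𝓗).h v v = 0), k ≠ tv hF v hv) :
    ∃ c T : Unit' 𝓗, detHom 𝓗 c = 1 ∧ detHom 𝓗 T = 1 ∧
      ¬ Commute ((k * (c * k * c⁻¹)) ^ 2) T ∧ ¬ Commute ((k * (c * k * c⁻¹)) ^ 3) T := by
  obtain ⟨v₁, hv₁, a, hva, hk₁, hsub, ha', hka, -⟩ := exists_peel hF k hk hk1
  set T₁ := tv hF v₁ hv₁ with hT₁
  set k₁ := k * T₁ with hk₁def
  have hne₁ : k₁ ≠ 1 := fun h => hnt v₁ hv₁ (by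
    calc k = k₁ * T₁ := by rw [hk₁def, mul_assoc, tv_sq, mul_one]
      _ = T₁ := by rw [h, one_mul])
  obtain ⟨v₂, hv₂, b, hvb, hk₂, hsub₂, hb', hkb, -⟩ := exists_peel hF k₁ hk₁ hne₁
  set T₂ := tv hF v₂ hv₂ with hT₂
  set k₂ := k₁ * T₂ with hk₂def
  have z2 : ∀ y : Fin n → F, y + y = 0 := fun y => smul_add_self_zero hF y
  have fixN : ∀ (g : Unit' 𝓗), g * g = 1 → ∀ y, g.1 (g.1 y + y) = g.1 y + y := fun g hg y => by
    rw [map_add, ← CfsgLib.Classical.Herm.mul_apply, hg, one_apply, add_comm]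
  have pair1 : ∀ (g : Unit' 𝓗) (v y : Fin n → F) (hv : (𝓗).h v v = 0), g * g = 1 →
      v = g.1 y + y → (g * tv hF v hv).1 y = y → g.1 y ≠ y → (𝓗).h y v = 1 := by
    intro g v y hv hg hvy hfix hne
    have hgv : g.1 v = v := by rw [hvy]; exact fixN g hg y
    rw [CfsgLib.Classical.Herm.mul_apply, tv_apply, map_add, map_smul, hgv] at hfix
    have h1 : (1 + (𝓗).h y v) • v = 0 := by
      rw [add_smul, one_smul]
      have h2 : g.1 y = v + y := by rw [hvy, add_assoc, z2, add_zero]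
      rw [h2] at hfix
      linear_combination (norm := module) hfix
    have hv0 : v ≠ 0 := fun h0 => hne (by
      rw [h0] at hvy
      calc g.1 y = g.1 y + y + y := by rw [add_assoc, z2, add_zero]
        _ = y := by rw [← hvy, zero_add])
    have h3 := (smul_eq_zero.1 h1).resolve_right hv0
    linear_combination h3 - two_eq_zero hF
  have p11 : (𝓗).h a v₁ = 1 := pair1 k v₁ a hv₁ hk hva ha' hka
  have p22₀ : (𝓗).h b v₂ = 1 := pair1 k₁ v₂ b hv₂ hk₁ hvb hb' hkb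
  have hk₁v₁ : k₁.1 v₁ = v₁ := hsub _ (by rw [hva]; exact fixN k hk a)
  have hk₁v₂ : k₁.1 v₂ = v₂ := by rw [hvb]; exact fixN k₁ hk₁ b
  have horth : ∀ y, k₁.1 y = y → (𝓗).h y v₂ = 0 := by
    intro y hy
    have := unit_h_fix k₁ hy b
    rwa [sub_eq_add_neg, show -b = b from neg_eq_of_add_eq_zero_left (z2 b), ← hvb] at this
  obtain ⟨c₁, hc₁⟩ := (𝓗).exists_trace ((𝓗).conj_diag a)
  set a₁ := a + c₁ • v₁ with ha₁def
  have hv₁a : (𝓗).h v₁ a = 1 := (𝓗).h_comm_one p11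
  have fa₁ : k₁.1 a₁ = a₁ := by rw [ha₁def, map_add, map_smul, ha', hk₁v₁]
  have ha₁ : (𝓗).h a₁ a₁ = 0 := by
    rw [ha₁def, (𝓗).add_left, (𝓗).add_right, (𝓗).add_right, (𝓗).smul_left, (𝓗).smul_left,
      (𝓗).smul_right, (𝓗).smul_right, hv₁, p11, hv₁a]
    linear_combination hc₁ + (𝓗).h a a * two_eq_zero hF
  have q11 : (𝓗).h a₁ v₁ = 1 := by
    rw [ha₁def, (𝓗).add_left, (𝓗).smul_left, hv₁, p11, mul_zero, add_zero]
  clear_value a₁
  have p12 := horth a₁ fa₁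
  have h12 := horth v₁ hk₁v₁
  set β := (𝓗).h b a₁ with hβ
  set α := (𝓗).h b v₁ with hα
  set b' := b + (α • a₁ + β • v₁) with hb'def
  have fadd : k₁.1 (α • a₁ + β • v₁) = α • a₁ + β • v₁ := by
    rw [map_add, map_smul, map_smul, fa₁, hk₁v₁]
  have hb'v : (𝓗).h b' v₁ = 0 := by
    rw [hb'def, (𝓗).add_left, (𝓗).add_left, (𝓗).smul_left, (𝓗).smul_left, q11, hv₁, ← hα]
    linear_combination add_self_zero hF α
  have hb'a : (𝓗).h b' a₁ = 0 := by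
    rw [hb'def, (𝓗).add_left, (𝓗).add_left, (𝓗).smul_left, (𝓗).smul_left, ha₁,
      (𝓗).h_comm_one q11, ← hβ]
    linear_combination add_self_zero hF β
  have hb'v₂ : (𝓗).h b' v₂ = 1 := by
    rw [hb'def, (𝓗).add_left, horth _ fadd, p22₀, add_zero]
  have fb' : k₂.1 b' = b' := by
    rw [hb'def, map_add, hb', hsub₂ _ fadd]
  clear_value b'
  obtain ⟨c₂, hc₂⟩ := (𝓗).exists_trace ((𝓗).conj_diag b')
  set a₂ := b' + c₂ • v₂ with ha₂def
  have hk₂v₂ : k₂.1 v₂ = v₂ := hsub₂ _ hk₁v₂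
  have hk₂v₁ : k₂.1 v₁ = v₁ := hsub₂ _ hk₁v₁
  have fa₂ : k₂.1 a₂ = a₂ := by rw [ha₂def, map_add, map_smul, fb', hk₂v₂]
  have ha₂ : (𝓗).h a₂ a₂ = 0 := by
    rw [ha₂def, (𝓗).add_left, (𝓗).add_right, (𝓗).add_right, (𝓗).smul_left, (𝓗).smul_left,
      (𝓗).smul_right, (𝓗).smul_right, hv₂, hb'v₂, (𝓗).h_comm_one hb'v₂]
    linear_combination hc₂ + (𝓗).h b' b' * two_eq_zero hF
  have q22 : (𝓗).h a₂ v₂ = 1 := by
    rw [ha₂def, (𝓗).add_left, (𝓗).smul_left, hv₂, hb'v₂, mul_zero, add_zero]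
  have q21 : (𝓗).h a₂ v₁ = 0 := by
    rw [ha₂def, (𝓗).add_left, (𝓗).smul_left, hb'v, (𝓗).h_comm_zero h12, mul_zero, add_zero]
  have ha12 : (𝓗).h a₁ a₂ = 0 := (𝓗).h_comm_zero (by
    rw [ha₂def, (𝓗).add_left, (𝓗).smul_left, hb'a, (𝓗).h_comm_zero p12, mul_zero, add_zero])
  clear_value a₂
  have hw : (𝓗).h (a₁ + a₂) (a₁ + a₂) = 0 := by
    rw [(𝓗).add_left, (𝓗).add_right, (𝓗).add_right, ha₁, ha₂, ha12, (𝓗).h_comm_zero ha12]
    simp
  set S₁ := tv hF (a₁ + a₂) hw with hS₁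
  set S₂ := tv hF a₂ ha₂ with hS₂
  set g := T₁ * S₁ * T₂ * S₂ with hg
  have w1 : (𝓗).h (a₁ + a₂) v₁ = 1 := by rw [(𝓗).add_left, q11, q21, add_zero]
  have w2 : (𝓗).h a₂ (a₁ + a₂) = 0 := by
    rw [(𝓗).add_right, (𝓗).h_comm_zero ha12, ha₂, add_zero]
  obtain ⟨g1, g2⟩ := path_conj (tv_sq hF v₁ hv₁) (tv_sq hF _ hw) (tv_sq hF v₂ hv₂) (tv_sq hF _ ha₂)
    (tv_braid hF hv₁ hw w1) (tv_braid hF hv₂ ha₂ q22)
    (tv_commute_of_orth hF hv₁ hv₂ ((𝓗).h_comm_zero h12)) (tv_commute_of_orth hF hv₁ ha₂ q21)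
    (tv_commute_of_orth hF hw ha₂ w2)
  rw [← hT₁, ← hS₁, ← hT₂, ← hS₂, ← hg] at g1 g2
  have cT₁ := commute_tv_of_fix hF k₂ v₁ hv₁ hk₂v₁
  have cT₂ := commute_tv_of_fix hF k₂ v₂ hv₂ hk₂v₂
  have cS₁ := commute_tv_of_fix hF k₂ (a₁ + a₂) hw (by rw [map_add, hsub₂ _ fa₁, fa₂])
  have cS₂ := commute_tv_of_fix hF k₂ a₂ ha₂ fa₂
  have cg : Commute k₂ g := ((cT₁.mul_right cS₁).mul_right cT₂).mul_right cS₂
  have hkeq : k = T₁ * T₂ * k₂ := by
    calc k = k₁ * T₁ := by rw [hk₁def, mul_assoc, tv_sq, mul_one]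
      _ = k₂ * T₂ * T₁ := by rw [hk₂def, mul_assoc k₁ T₂ T₂, tv_sq, mul_one]
      _ = k₂ * (T₁ * T₂) := by
          rw [mul_assoc, (tv_commute_of_orth hF hv₁ hv₂ ((𝓗).h_comm_zero h12)).symm.eq]
      _ = _ := (cT₁.mul_right cT₂).eq
  have hconj : g * k * g⁻¹ = S₁ * S₂ * k₂ := by
    calc g * k * g⁻¹ = (g * T₁ * g⁻¹) * (g * T₂ * g⁻¹) * (g * k₂ * g⁻¹) := by rw [hkeq]; group
      _ = _ := by rw [g1, g2, cg.symm.eq, mul_inv_cancel_right]
  have hkt : k * (g * k * g⁻¹) = T₁ * T₂ * (S₁ * S₂) := by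
    rw [hconj, hkeq]
    calc T₁ * T₂ * k₂ * (S₁ * S₂ * k₂) = T₁ * T₂ * (k₂ * (S₁ * S₂)) * k₂ := by
          simp only [mul_assoc]
      _ = T₁ * T₂ * (S₁ * S₂) * (k₂ * k₂) := by
          rw [(cS₁.mul_right cS₂).eq]; simp only [hS₁, hS₂, mul_assoc]
      _ = _ := by rw [hk₂, mul_one]
  have hdet : detHom 𝓗 g = 1 := by simp [hg, hT₁, hT₂, hS₁, hS₂, det_tv]
  refine ⟨g, T₁, hdet, det_tv hF _ hv₁, ?_⟩
  rw [hkt]
  exact path_product hF v₁ v₂ a₁ a₂ hv₁ hv₂ h12 ha₁ ha₂ ha12 q11 q22 p12 q21 hw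

/-- The projection of an isometry of determinant one. -/
noncomputable def proj : (detHom 𝓗).ker →* Cfsg.PSU n F 2 :=
  (QuotientGroup.mk' (Subgroup.center (Cfsg.SU n F 2))).comp (suEquiv hF n).symm.toMonoidHom

theorem proj_surjective : Function.Surjective (proj hF (n := n)) :=
  (QuotientGroup.mk'_surjective _).comp (suEquiv hF n).symm.surjective

theorem proj_eq_one {z : (detHom 𝓗).ker} (h : proj hF z = 1) (y : (detHom 𝓗).ker) :
    Commute z y := by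
  have h1 : (suEquiv hF n).symm z ∈ Subgroup.center (Cfsg.SU n F 2) := (QuotientGroup.eq_one_iff _).1 h
  have h2 := Subgroup.mem_center_iff.1 h1 ((suEquiv hF n).symm y)
  rw [← map_mul, ← map_mul] at h2
  exact ((suEquiv hF n).symm.injective h2).symm

/-- The image of a transvection. -/
noncomputable def ptv (v : Fin n → F) (hv : (𝓗).h v v = 0) : Cfsg.PSU n F 2 :=
  proj hF ⟨tv hF v hv, det_tv hF v hv⟩

/-- A class of 3-transpositions of `PSU(6, 2)` consists of the images of the transvections. -/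
theorem eq_tv_class (hF : Fintype.card F = 2 ^ 2) {E : Set (Cfsg.PSU 6 F 2)}
    (hE : Cfsg.IsThreeTranspositionClass E) :
    E = {x | ∃ v, ∃ hv : (stdHerm hF 6).h v v = 0, v ≠ 0 ∧ ptv hF v hv = x} := by
  have hZ : Nat.card (Subgroup.center (Cfsg.SU 6 F 2)) = 3 := by
    rw [card_center_su hF (by norm_num)]; norm_num
  obtain ⟨hset, hconj, -⟩ := CfsgLib.ThreeTransp.class_to_group hE
  have hto : ∀ x ∈ E, ∃ v, ∃ hv : (stdHerm hF 6).h v v = 0, v ≠ 0 ∧ ptv hF v hv = x := by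
    intro x hx
    have hx2 : x * x = 1 := CfsgLib.ThreeTransp.mul_self_eq_one (hset.1 x hx)
    obtain ⟨g, hg⟩ := QuotientGroup.mk_surjective x
    have hgc : g * g ∈ Subgroup.center (Cfsg.SU 6 F 2) := by
      rwa [← hg, ← QuotientGroup.mk_mul, QuotientGroup.eq_one_iff] at hx2
    have hz : (g * g) ^ 3 = 1 := by
      have := pow_card_eq_one' (x := (⟨g * g, hgc⟩ : Subgroup.center (Cfsg.SU 6 F 2)))
      rw [hZ] at this
      exact congrArg Subtype.val this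
    set k₀ := suEquiv hF 6 (g ^ 3) with hk₀
    have hpk : proj hF k₀ = x := by
      show (QuotientGroup.mk ((suEquiv hF 6).symm (suEquiv hF 6 (g ^ 3))) : Cfsg.PSU 6 F 2) = x
      rw [MulEquiv.symm_apply_apply, pow_succ, QuotientGroup.mk_mul,
        (QuotientGroup.eq_one_iff _).2 (by rw [pow_two]; exact hgc), one_mul, hg]
    have hk : (k₀ : Unit' (stdHerm hF 6)) * k₀ = 1 := by
      rw [← Subgroup.coe_mul, hk₀, ← map_mul, ← (Commute.refl g).mul_pow, hz, map_one]; rfl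
    have hk1 : (k₀ : Unit' (stdHerm hF 6)) ≠ 1 := fun h => by
      have : x = 1 := by rw [← hpk, show k₀ = 1 from Subtype.ext h, map_one]
      have h2 := hset.1 x hx
      rw [this, orderOf_one] at h2
      exact absurd h2 (by norm_num)
    by_contra hno
    push Not at hno
    have hnt : ∀ v (hv : (stdHerm hF 6).h v v = 0), (k₀ : Unit' (stdHerm hF 6)) ≠ tv hF v hv := by
      intro v hv hkv
      by_cases hv0 : v = 0
      · refine hk1 (hkv.trans (unit_ext fun y => ?_))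
        subst hv0
        rw [tv_apply, one_apply, smul_zero, add_zero]
      · exact hno v hv hv0 (by rw [ptv, ← hpk]; exact congrArg _ (Subtype.ext hkv.symm))
    obtain ⟨c, T, hc, hT, n2, n3⟩ := exists_bad_conj hF _ hk hk1 hnt
    set c₀ : (detHom (stdHerm hF 6)).ker := ⟨c, hc⟩
    have hy : proj hF c₀ * x * (proj hF c₀)⁻¹ ∈ E := hconj _ x hx
    rcases hset.2 x hx _ hy with h | h <;>
      rw [← hpk, ← map_inv, ← map_mul, ← map_mul, ← map_mul, ← map_pow] at h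
    · exact n2 (by simpa using (proj_eq_one hF h ⟨T, hT⟩).map (detHom (stdHerm hF 6)).ker.subtype)
    · exact n3 (by simpa using (proj_eq_one hF h ⟨T, hT⟩).map (detHom (stdHerm hF 6)).ker.subtype)
  refine Set.Subset.antisymm hto ?_
  rintro x ⟨w, hw, hw0, rfl⟩
  obtain ⟨d, hd, -⟩ := hE.2.1
  obtain ⟨v, hv, hv0, rfl⟩ := hto d hd
  obtain ⟨g, hg, hgv⟩ := rootGen_transitive (big_std hF (n := 6) (by norm_num)) hv hv0 hw hw0
  have hdet : detHom (stdHerm hF 6) g = 1 := MonoidHom.mem_ker.1 (rootGen_le_ker_det hg)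
  have h1 := hconj (proj hF ⟨g, hdet⟩) _ hd
  rw [ptv, ← map_inv, ← map_mul, ← map_mul] at h1
  convert h1 using 2
  refine congrArg _ (Subtype.ext ?_)
  show tv hF w hw = g * tv hF v hv * g⁻¹
  rw [tv_conj]
  exact tv_congr hF _ _ hgv.symm

end CfsgLib.FischerType.U6
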