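import Cfsg.Agent.Lib.FischerType.Factor

set_option autoImplicit false

/-! The centraliser of a product of three commuting members permutes them. -/

namespace CfsgLib.FischerType

open Subgroup
open CfsgLib.ThreeTrans (link)

theorem exists_hom_perm {G : Type*} [Group G] {C : Subgroup G} {ι : Type*} [Finite ι] (f : ι → G)
    (hf : Function.Injective f) (h : ∀ g ∈ C, ∀ i, ∃ j, g * f i * g⁻¹ = f j) :
    ∃ φ : ↥C →* Equiv.Perm ι, ∀ (g : ↥C) (i : ι), f (φ g i) = (g : G) * f i * (g : G)⁻¹ := by
  let p : ↥C → ι → ι := fun g i => (h g g.2 i).choose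
  have hp : ∀ (g : ↥C) i, f (p g i) = (g : G) * f i * (g : G)⁻¹ :=
    fun g i => (h g g.2 i).choose_spec.symm
  have hinj : ∀ g : ↥C, Function.Injective (p g) := fun g i j hij => by
    have h1 := hp g i
    rw [hij, hp g j] at h1
    exact (hf (mul_left_cancel (mul_right_cancel h1))).symm
  let σ : ↥C → Equiv.Perm ι := fun g => Equiv.ofBijective (p g) (Finite.injective_iff_bijective.1 (hinj g))
  refine ⟨MonoidHom.mk' σ fun g k => Equiv.ext fun i => hf ?_, fun g i => hp g i⟩
  show f (p (g * k) i) = f (p g (p k i))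
  rw [hp, hp, hp, Subgroup.coe_mul]
  group

variable {G : Type*} [Group G] [Finite G] {D : Set G}

theorem Setting.nonempty_quotient_equiv (S : Setting D) {d : G} (hd : d ∈ D)
    (hpair : ∃ u ∈ link D d, ∃ v ∈ link D d, ¬ Commute u v) (SX : Setting (img D d))
    (hP : ∀ a ∈ D, ∀ b ∈ link D a, PairTwinFree D a b) {a b c : G} (ha : a ∈ D) (hb : b ∈ D)
    (hc : c ∈ D) (hab : a ≠ b) (hac : a ≠ c) (hbc : b ≠ c) (cab : Commute a b) (cac : Commute a c)
    (cbc : Commute b c) :
    centralizer ({a, b, c} : Set G) ≤ centralizer ({a * b * c} : Set G) ∧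
      ∃ _ : ((centralizer ({a, b, c} : Set G)).subgroupOf
          (centralizer ({a * b * c} : Set G))).Normal,
        Nonempty (↥(centralizer ({a * b * c} : Set G)) ⧸ (centralizer ({a, b, c} : Set G)).subgroupOf
          (centralizer ({a * b * c} : Set G)) ≃* Equiv.Perm (Fin 3)) := by
  set f : Fin 3 → G := ![a, b, c] with hfdef
  have hfmem : ∀ x, x ∈ [a, b, c] ↔ ∃ i, x = f i := by
    intro x
    simp [hfdef, Fin.exists_fin_succ]
  have hfD : ∀ i, f i ∈ D := by intro i; fin_cases i <;> assumption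
  have hfc : ∀ i j, Commute (f i) (f j) := by
    intro i j
    fin_cases i <;> fin_cases j <;>
      first
        | exact Commute.refl _
        | assumption
        | exact cab.symm
        | exact cac.symm
        | exact cbc.symm
  have hf : Function.Injective f := by
    intro i j hij
    fin_cases i <;> fin_cases j <;> simp_all [hfdef, eq_comm]
  have hcent : ∀ g : G, g ∈ centralizer ({a, b, c} : Set G) ↔ ∀ i, g * f i * g⁻¹ = f i := by
    intro g
    rw [mem_centralizer_iff]
    constructor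
    · intro h i
      have h1 : f i * g = g * f i := h _ (by fin_cases i <;> simp [hfdef])
      rw [← h1, mul_inv_cancel_right]
    · intro h x hx
      obtain ⟨i, rfl⟩ := (hfmem x).1 (by simpa using hx)
      calc f i * g = g * f i * g⁻¹ * g := by rw [h i]
        _ = g * f i := by rw [inv_mul_cancel_right]
  have hconj : ∀ g : G, g * (a * b * c) * g⁻¹ = (g * a * g⁻¹) * (g * b * g⁻¹) * (g * c * g⁻¹) :=
    fun g => by group
  have hperm : ∀ g ∈ centralizer ({a * b * c} : Set G), ∀ i, ∃ j, g * f i * g⁻¹ = f j := by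
    intro g hg i
    have hD' := fun x hx => CfsgLib.ThreeTransp.class_conj_mem S.cls g (d := x) hx
    have inj : ∀ {x y : G}, x ≠ y → g * x * g⁻¹ ≠ g * y * g⁻¹ :=
      fun hxy h => hxy (mul_left_cancel (mul_right_cancel h))
    have cc : ∀ {x y : G}, Commute x y → Commute (g * x * g⁻¹) (g * y * g⁻¹) :=
      fun h => (CfsgLib.ThreeTrans.commute_conj_iff' g _ _).2 h
    have h1 : (g * a * g⁻¹) * (g * b * g⁻¹) * (g * c * g⁻¹) = a * b * c := by
      rw [← hconj, CfsgLib.ThreeTrans.conj_self_of_commute (mem_centralizer_singleton_iff.1 hg)]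
    have h2 := S.triple_unique hP (hD' a ha) (hD' b hb) (hD' c hc) ha hb hc (inj hab) (inj hac)
      (inj hbc) hab hac hbc (cc cab) (cc cac) (cc cbc) cab cac cbc h1 (g * f i * g⁻¹)
    refine (hfmem _).1 (h2.1 ?_)
    fin_cases i <;> simp [hfdef]
  obtain ⟨φ, hφ⟩ := exists_hom_perm (C := centralizer ({a * b * c} : Set G)) f hf hperm
  have hle : centralizer ({a, b, c} : Set G) ≤ centralizer ({a * b * c} : Set G) := fun g hg => by
    rw [mem_centralizer_iff] at hg
    refine mem_centralizer_singleton_iff.2 (Commute.eq ?_)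
    have h1 : Commute a g := hg a (by simp)
    have h2 : Commute b g := hg b (by simp)
    have h3 : Commute c g := hg c (by simp)
    exact (h1.symm.mul_right h2.symm).mul_right h3.symm
  have hker : (centralizer ({a, b, c} : Set G)).subgroupOf (centralizer ({a * b * c} : Set G)) =
      φ.ker := by
    ext g
    rw [mem_subgroupOf, hcent, MonoidHom.mem_ker]
    refine ⟨fun h => Equiv.ext fun i => hf ?_, fun h i => ?_⟩
    · rw [hφ, h i]; rfl
    · rw [← hφ, h]; rfl
  have hprod : a * b * c = (List.ofFn f).prod := by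
    simp [hfdef, List.ofFn_succ, mul_assoc]
  have hsurj : Function.Surjective φ := by
    intro σ
    have hne : ∀ i j, i ≠ j → f (σ j) ≠ f (σ i) := fun i j hij h => hij (σ.injective (hf h).symm)
    obtain ⟨g, ga, gb, gc⟩ := S.exists_conj_triple hd hpair SX ha ⟨hb, hab.symm, cab⟩
      ⟨hc, hac.symm, cac⟩ ⟨hc, hbc.symm, cbc⟩ (hfD (σ 0))
      ⟨hfD (σ 1), hne 0 1 (by decide), hfc _ _⟩ ⟨hfD (σ 2), hne 0 2 (by decide), hfc _ _⟩
      ⟨hfD (σ 2), hne 1 2 (by decide), hfc _ _⟩
    have hg : g * (a * b * c) * g⁻¹ = a * b * c := by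
      rw [hconj, ga, gb, gc]
      have h1 : f (σ 0) * f (σ 1) * f (σ 2) = (List.ofFn (f ∘ σ)).prod := by
        simp [List.ofFn_succ, mul_assoc]
      rw [h1, hprod]
      refine (Equiv.Perm.ofFn_comp_perm σ f).prod_eq' ?_
      rw [List.pairwise_ofFn]
      exact fun i j _ => hfc _ _
    refine ⟨⟨g, mem_centralizer_singleton_iff.2 ?_⟩, Equiv.ext fun i => hf ?_⟩
    · calc g * (a * b * c) = g * (a * b * c) * g⁻¹ * g := by rw [inv_mul_cancel_right]
        _ = a * b * c * g := by rw [hg]
    · rw [hφ]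
      fin_cases i <;> assumption
  refine ⟨hle, hker ▸ φ.normal_ker, ?_⟩
  haveI : ((centralizer ({a, b, c} : Set G)).subgroupOf
      (centralizer ({a * b * c} : Set G))).Normal := hker ▸ φ.normal_ker
  exact ⟨(QuotientGroup.quotientMulEquivOfEq hker).trans
    (QuotientGroup.quotientKerEquivOfSurjective φ hsurj)⟩

end CfsgLib.FischerType
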